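import Groth.Agent.SBAutLib.Main

/-!
# The automorphisms of a Severi–Brauer scheme as a quotient of the units
-/

set_option autoImplicit false
set_option backward.isDefEq.respectTransparency false
set_option linter.style.haveILetI false
set_option linter.unusedSectionVars false
set_option maxHeartbeats 100000
universe u

open CategoryTheory CategoryTheory.Limits AlgebraicGeometry
open Groth.Agent Groth.Agent.SBSplitLib Groth.Agent.PnAutLib
open scoped TensorProduct Matrix

noncomputable section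

namespace Groth.Agent.SBAutLib

variable {k : Type u} [Field k] {A : Type u} [Ring A] [Algebra k A] {E : Type u} [Field E] [Algebra k E]
  {m : ℕ} (φ : E ⊗[k] A ≃ₐ[E] Matrix (Fin (m + 1)) (Fin (m + 1)) E)
  {X : Scheme.{u}} {f : X ⟶ Spec (CommRingCat.of k)}
  (s : BrSev.SBStr k A ((m + 1) * (m + 1) - (m + 1)) f)
  (ξ : Aˣ →* Aut (Over.mk f))
  (hξ : ∀ (a : Aˣ) (R : Type u) [CommRing R] [Algebra k R] (x : BrSev.Pts f R),
      s.bij R (ptComp x (ξ a).hom) = act (unitAt R a) (s.bij R x))

local notation "ℙm" => CohB1.ProjSpace m E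

theorem exists_unit_transpose (M : GL (Fin (m + 1)) E) : ∃ y : (E ⊗[k] A)ˣ,
    φ (y : E ⊗[k] A) = (M : Matrix (Fin (m + 1)) (Fin (m + 1)) E)ᵀ := by
  obtain ⟨y, hy⟩ := ((Matrix.isUnit_transpose (M : Matrix (Fin (m + 1)) (Fin (m + 1)) E)).2 M.isUnit).map φ.symm
  exact ⟨y, by rw [hy, AlgEquiv.apply_symm_apply]⟩

theorem spec_self : Spec.map (CommRingCat.ofHom (algebraMap E E)) = 𝟙 (Spec (CommRingCat.of E)) := by
  rw [Algebra.algebraMap_self]
  exact Spec.map_id _

theorem pts_self (x : BrSev.Pts f E) :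
    x.1 ≫ f = Spec.map (CommRingCat.ofHom (algebraMap E E)) ≫ Spec.map (CommRingCat.ofHom (algebraMap k E)) := by
  rw [spec_self, Category.id_comp]
  exact x.2

theorem ideal_self_point (x : BrSev.Pts f E) (v : Fin (m + 1) → E) (c : Fin (m + 1)) (hc : IsUnit (v c))
    (hv : x.1 = ProjMap.point (R := E) v c hc ≫ q φ s) :
    (s.bij E x).1.toSubmodule.map φ.toLinearEquiv.toLinearMap = rows v := by
  rw [← ideal_self φ s x (pts_self x)]
  exact (ideal_congr φ s rfl hv _).trans (ideal_point φ s v c hc)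

/-- An automorphism translates the ideals of the `E`-points by a fixed element. -/
theorem exists_unit_act (g : Aut (Over.mk f)) : ∃ (M : GL (Fin (m + 1)) E) (y : (E ⊗[k] A)ˣ),
    gl φ s g.hom = Lin M ∧ φ (y : E ⊗[k] A) = (M : Matrix (Fin (m + 1)) (Fin (m + 1)) E)ᵀ ∧
      ∀ x : BrSev.Pts f E, s.bij E (ptComp x g.hom) = act y (s.bij E x) := by
  haveI := isIso_gl φ s g.hom
  obtain ⟨M, hM⟩ := exists_eq_Lin _ (gl_toSpec φ s g.hom)
  obtain ⟨y, hy⟩ := exists_unit_transpose φ M
  refine ⟨M, y, hM, hy, fun x => ?_⟩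
  obtain ⟨v, c, hc, hv⟩ := exists_point_eq φ s x
  let w : Fin (m + 1) → E := (M : Matrix (Fin (m + 1)) (Fin (m + 1)) E) *ᵥ v
  have hne : w ≠ 0 := fun h0 => hc.ne_zero (congrFun
    (Matrix.mulVec_injective_iff_isUnit.2 M.isUnit (h0.trans (Matrix.mulVec_zero _).symm)) c)
  obtain ⟨b, hb⟩ : ∃ b, w b ≠ 0 := Function.ne_iff.1 hne
  have hL := point_Lin (A := E) M v c hc w (by simp [w]) b (IsUnit.mk0 _ hb)
  refine act_eq_of_rows φ s y (v := v) (ideal_self_point φ s x v c hc hv.symm) ?_
  rw [hy, Matrix.vecMul_transpose]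
  refine ideal_self_point φ s (ptComp x g.hom) w b (IsUnit.mk0 _ hb) ?_
  show x.1 ≫ g.hom.left = _
  rw [← hL, ← hM, Category.assoc, gl_q, ← Category.assoc, hv]

-- units fixing all ideals are scalar
include φ in
theorem eq_scalar_of_act (z : (E ⊗[k] A)ˣ) (h : ∀ x : BrSev.Pts f E, act z (s.bij E x) = s.bij E x) :
    ∃ r : E, (z : E ⊗[k] A) = r • 1 := by
  obtain ⟨r, hr⟩ : ∃ r : E, (φ (z : E ⊗[k] A))ᵀ = Matrix.scalar (Fin (m + 1)) r := by
    refine eq_scalar_of_mulVec _ fun v hv => ?_
    obtain ⟨c, hc⟩ : ∃ c, v c ≠ 0 := Function.ne_iff.1 hv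
    let x : BrSev.Pts f E := ⟨ProjMap.point (R := E) v c (IsUnit.mk0 _ hc) ≫ q φ s, by
      rw [q_point_comp φ s _ (point_comp_toSpec' _ _ _), Algebra.algebraMap_self]
      exact (congrArg (· ≫ _) (Spec.map_id _)).trans (Category.id_comp _)⟩
    have hx : (s.bij E x).1.toSubmodule.map φ.toLinearEquiv.toLinearMap = rows v :=
      (ideal_self φ s x (q_point_comp φ s _ (point_comp_toSpec' _ _ _))).symm.trans
        (ideal_point φ s v c (IsUnit.mk0 _ hc))
    have h2 : rows (v ᵥ* φ (z : E ⊗[k] A)) = rows v := by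
      rw [show v ᵥ* φ (z : E ⊗[k] A) = v ᵥ* ((Units.map φ.toRingEquiv.toRingHom.toMonoidHom z :
        (Matrix (Fin (m + 1)) (Fin (m + 1)) E)ˣ) : Matrix _ _ E) from rfl, ← rows_map_mul]
      conv_lhs => rw [← hx]
      conv_rhs => rw [← hx, ← h x]
      show _ = (Submodule.map _ _).map _
      rw [← Submodule.map_comp, ← Submodule.map_comp]
      congr 1
      exact LinearMap.ext fun w => (map_mul φ w _).symm
    rw [Matrix.mulVec_transpose]
    obtain ⟨a, ha⟩ : Matrix.vecMulVec (Pi.single c 1) (v ᵥ* φ (z : E ⊗[k] A)) ∈ rows v := h2 ▸ ⟨_, rfl⟩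
    refine ⟨a c, funext fun j => ?_⟩
    have := congrFun (congrFun ha c) j
    simpa [Matrix.vecMulVec_apply] using this.symm
  refine ⟨r, φ.injective ?_⟩
  rw [map_smul, map_one, ← Matrix.transpose_transpose (φ (z : E ⊗[k] A)), hr]
  simp [Matrix.scalar, Matrix.smul_one_eq_diagonal]

attribute [local instance] CSAGal.matrixAction GpH1.unitsAction CSAGal.pglAction CSAGal.tensorAction

theorem smul_eq_map (σ : E ≃ₐ[k] E) (t : E ⊗[k] A) :
    σ • t = Algebra.TensorProduct.map σ.toAlgHom (AlgHom.id k A) t := by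
  induction t using TensorProduct.induction_on with
  | zero => simp
  | tmul x a => rw [CSADescent.smul_tmul_one, Algebra.TensorProduct.map_tmul]; rfl
  | add x y hx hy => rw [smul_add, hx, hy, map_add]

include φ s hξ in
theorem ker_eq [Algebra.IsCentral k A] : ξ.ker = (Units.map (algebraMap k A : k →* A)).range := by
  ext a
  rw [MonoidHom.mem_ker, MonoidHom.mem_range]
  constructor
  · intro h
    have h1 : Lin (matOf φ a) = 𝟙 ℙm := by
      rw [← gl_aut φ s ξ hξ a, h]
      exact gl_id φ s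
    obtain ⟨r, hr⟩ := exists_scalar_of_Lin_eq_id h1
    have h2 : φ ((1 : E) ⊗ₜ[k] ((a⁻¹ : Aˣ) : A)) = Matrix.scalar (Fin (m + 1)) (r : E) := by
      refine Matrix.transpose_injective ?_
      have := congrArg Units.val hr
      rw [show (φ ((1 : E) ⊗ₜ[k] ((a⁻¹ : Aˣ) : A)))ᵀ = (matOf φ a : Matrix (Fin (m + 1)) (Fin (m + 1)) E) from rfl, ← this]
      exact (Matrix.diagonal_transpose _).symm
    have hc : ((a⁻¹ : Aˣ) : A) ∈ Subalgebra.center k A := by
      rw [Subalgebra.mem_center_iff]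
      intro b
      refine Algebra.TensorProduct.includeRight_injective (R := k) (B := A) (algebraMap k E).injective (φ.injective ?_)
      simp only [Algebra.TensorProduct.includeRight_apply]
      rw [show (1 : E) ⊗ₜ[k] (b * ((a⁻¹ : Aˣ) : A)) = ((1 : E) ⊗ₜ[k] b) * ((1 : E) ⊗ₜ[k] ((a⁻¹ : Aˣ) : A)) by simp,
        show (1 : E) ⊗ₜ[k] (((a⁻¹ : Aˣ) : A) * b) = ((1 : E) ⊗ₜ[k] ((a⁻¹ : Aˣ) : A)) * ((1 : E) ⊗ₜ[k] b) by simp,
        map_mul, map_mul, h2]
      exact (Matrix.scalar_commute (r : E) (fun x => mul_comm _ x) _).eq.symm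
    obtain ⟨c, hc'⟩ := Algebra.mem_bot.1 (Algebra.IsCentral.out hc)
    have hc0 : c ≠ 0 := fun h0 => by
      haveI : Nontrivial A := by
        haveI : Nontrivial (E ⊗[k] A) := φ.toEquiv.nontrivial
        by_contra hA
        rw [not_nontrivial_iff_subsingleton] at hA
        exact not_subsingleton (E ⊗[k] A) inferInstance
      exact Units.ne_zero a⁻¹ (by rw [← hc', h0, map_zero])
    refine ⟨(Units.mk0 c hc0)⁻¹, inv_injective ?_⟩
    rw [map_inv, inv_inv]
    exact Units.ext hc'
  · rintro ⟨c, rfl⟩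
    refine Iso.ext (hom_ext_pts s fun R _ _ x => ?_)
    rw [hξ]
    have hx : ptComp x (𝟙 (Over.mk f)) = x := Subtype.ext (Category.comp_id _)
    show _ = s.bij R (ptComp x (𝟙 _))
    rw [hx]
    refine ext_set (SetLike.ext fun z => ?_)
    rw [mem_act]
    have e : z * (((unitAt R (Units.map (algebraMap k A : k →* A) c))⁻¹ : (R ⊗[k] A)ˣ) : R ⊗[k] A) =
        algebraMap k R (c : k) • z := by
      rw [unitAt, map_inv, inv_inv]
      show z * ((1 : R) ⊗ₜ[k] algebraMap k A (c : k)) = _
      rw [Algebra.algebraMap_eq_smul_one, TensorProduct.tmul_smul, ← Algebra.TensorProduct.one_def,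
        Algebra.mul_smul_comm, mul_one, algebraMap_smul]
    rw [e]
    exact Submodule.smul_mem_iff' _ ((c.isUnit.map (algebraMap k R)).unit)

include φ s hξ in
theorem surjective [FiniteDimensional k A] [FiniteDimensional k E] [IsGalois k E] : Function.Surjective ξ := by
  intro g
  obtain ⟨M, y, hM, hy, hact⟩ := exists_unit_act φ s g
  -- the element is fixed by the Galois group up to a scalar
  have hsig : ∀ σ : E ≃ₐ[k] E, ∃ r : E, σ • (y : E ⊗[k] A) = r • (y : E ⊗[k] A) := by
    intro σ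
    let y' := pushU σ.toAlgHom y
    have hy' : ∀ x : BrSev.Pts f E, act y' (s.bij E x) = act y (s.bij E x) := by
      intro x
      let x₀ := BrSev.Pts.map f σ.symm.toAlgHom x
      have hx : BrSev.Pts.map f σ.toAlgHom x₀ = x := Subtype.ext (by
        show Spec.map _ ≫ Spec.map _ ≫ x.1 = x.1
        rw [← Category.assoc, ← Spec.map_comp]
        refine (congrArg (fun p => Spec.map p ≫ x.1) (show _ = 𝟙 _ from ?_)).trans
          ((congrArg (· ≫ x.1) (Spec.map_id _)).trans (Category.id_comp _))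
        exact CommRingCat.hom_ext (RingHom.ext fun e => σ.apply_symm_apply e))
      rw [← hact x]
      have e1 : ptComp x g.hom = BrSev.Pts.map f σ.toAlgHom (ptComp x₀ g.hom) := by
        conv_lhs => rw [← hx]
        exact Subtype.ext (Category.assoc _ _ _)
      refine ext_set ?_
      rw [e1, s.natural, hact]
      refine (map_act σ.toAlgHom y _ (s.bij E x) ?_).symm
      conv_lhs => rw [← hx]
      exact s.natural _ _ _ _
    obtain ⟨r, hr⟩ := eq_scalar_of_act φ s (y' * y⁻¹) fun x => by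
      rw [act_mul, hy', ← act_mul, mul_inv_cancel, act_one]
    refine ⟨r, ?_⟩
    rw [smul_eq_map]
    show (y' : E ⊗[k] A) = _
    have h2 : (y' : E ⊗[k] A) = ((y' * y⁻¹ : (E ⊗[k] A)ˣ) : E ⊗[k] A) * (y : E ⊗[k] A) := by
      rw [← Units.val_mul, inv_mul_cancel_right]
    rw [h2, hr, smul_one_mul]
  -- normalise one coordinate
  let B := Algebra.TensorProduct.basis E (Module.Free.chooseBasis k A)
  haveI : Nontrivial (E ⊗[k] A) := φ.toEquiv.nontrivial
  obtain ⟨i, hi⟩ : ∃ i, B.repr (y : E ⊗[k] A) i ≠ 0 := by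
    by_contra! h0
    exact y.ne_zero (B.repr.map_eq_zero_iff.1 (Finsupp.ext h0))
  let c := (B.repr (y : E ⊗[k] A) i)⁻¹
  have hc : c ≠ 0 := inv_ne_zero hi
  have hB : ∀ (σ : E ≃ₐ[k] E) (t : E ⊗[k] A) j, B.repr (σ • t) j = σ (B.repr t j) := fun σ t j => by
    induction t using TensorProduct.induction_on with
    | zero => simp
    | tmul x a => rw [CSADescent.smul_tmul_one]; simp [B]
    | add x y hx hy => simp [smul_add, hx, hy]
  obtain ⟨b, hb⟩ := CSADescent.exists_eq_one_tmul_of_fixed (c • (y : E ⊗[k] A)) fun σ => by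
    obtain ⟨r, hr⟩ := hsig σ
    have h1 : σ • (c • (y : E ⊗[k] A)) = (σ c * r) • (y : E ⊗[k] A) := by
      rw [smul_eq_map, mul_smul, ← hr, smul_eq_map]
      have : ∀ t : E ⊗[k] A, Algebra.TensorProduct.map σ.toAlgHom (AlgHom.id k A) (c • t) =
          σ c • Algebra.TensorProduct.map σ.toAlgHom (AlgHom.id k A) t := by
        intro t
        induction t using TensorProduct.induction_on with
        | zero => simp
        | tmul x a =>
          rw [TensorProduct.smul_tmul', Algebra.TensorProduct.map_tmul, Algebra.TensorProduct.map_tmul,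
            TensorProduct.smul_tmul']
          simp
        | add x y hx hy => rw [smul_add, map_add, map_add, hx, hy, smul_add]
      exact this _
    have h2 : σ c * r = c := by
      have := hB σ (c • (y : E ⊗[k] A)) i
      rw [h1, map_smul, map_smul, Finsupp.smul_apply, Finsupp.smul_apply, smul_eq_mul, smul_eq_mul,
        show c * B.repr (y : E ⊗[k] A) i = 1 from inv_mul_cancel₀ hi, map_one] at this
      calc σ c * r = σ c * r * B.repr (y : E ⊗[k] A) i * c := by
            rw [mul_assoc _ _ c, show B.repr (y : E ⊗[k] A) i * c = 1 from mul_inv_cancel₀ hi, mul_one]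
        _ = c := by rw [this, one_mul]
    rw [h1, h2]
  have hbu : IsUnit b := by
    have hu : IsUnit ((1 : E) ⊗ₜ[k] b) := hb ▸ by
      rw [← smul_one_mul c (y : E ⊗[k] A), ← Algebra.algebraMap_eq_smul_one]
      exact ((IsUnit.mk0 c hc).map _).mul y.isUnit
    have hl : Function.Injective (LinearMap.mulLeft k b) := fun p q hpq =>
      Algebra.TensorProduct.includeRight_injective (algebraMap k E).injective (hu.mul_left_cancel (by
        simp only [Algebra.TensorProduct.includeRight_apply, Algebra.TensorProduct.tmul_mul_tmul, one_mul]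
        exact congrArg ((1 : E) ⊗ₜ[k] ·) hpq))
    have hr : Function.Injective (LinearMap.mulRight k b) := fun p q hpq =>
      Algebra.TensorProduct.includeRight_injective (algebraMap k E).injective (hu.mul_right_cancel (by
        simp only [Algebra.TensorProduct.includeRight_apply, Algebra.TensorProduct.tmul_mul_tmul, one_mul]
        exact congrArg ((1 : E) ⊗ₜ[k] ·) hpq))
    obtain ⟨p, hp⟩ := LinearMap.injective_iff_surjective.1 hl 1
    obtain ⟨p', hp'⟩ := LinearMap.injective_iff_surjective.1 hr 1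
    exact isUnit_iff_exists_and_exists.2 ⟨⟨p, hp⟩, ⟨p', hp'⟩⟩
  refine ⟨hbu.unit⁻¹, Iso.ext (gl_injective φ s ?_)⟩
  rw [gl_aut φ s ξ hξ, hM]
  let r : Eˣ := Units.mk0 c hc
  have hmat : matOf φ hbu.unit⁻¹ =
      Units.map (Matrix.scalar (Fin (m + 1)) : E →+* Matrix (Fin (m + 1)) (Fin (m + 1)) E).toMonoidHom r * M := by
    refine Units.ext ?_
    show (φ ((1 : E) ⊗ₜ[k] (((hbu.unit⁻¹)⁻¹ : Aˣ) : A)))ᵀ = Matrix.scalar (Fin (m + 1)) c * _
    rw [inv_inv, IsUnit.unit_spec, ← hb, map_smul, hy, Matrix.transpose_smul, Matrix.transpose_transpose]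
    exact Matrix.smul_eq_diagonal_mul _ c
  rw [hmat, Lin_mul, Lin_scalar, Category.comp_id]

end Groth.Agent.SBAutLib
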