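import Mathlib
import Groth.Agent.CSALib.Centralizer
import Groth.Agent.CSALib.Splitting

/-!
# Torsion in the units of a division algebra modulo the centre
-/

set_option autoImplicit false
universe u

open Polynomial

noncomputable section

namespace Groth.Agent.SBAutLib

variable {k : Type u} [Field k] {A : Type u} [DivisionRing A] [Algebra k A]

theorem isField_adjoin [FiniteDimensional k A] (a : A) : IsField (Algebra.adjoin k ({a} : Set A)) := by
  let L := Algebra.adjoin k ({a} : Set A)
  letI : CommRing L :=
    { (inferInstance : Ring L) with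
      mul_comm := fun x y => Subtype.ext (Algebra.commute_of_mem_adjoin_singleton_of_commute y.2
        (Algebra.commute_of_mem_adjoin_singleton_of_commute x.2 (Commute.refl a)).symm).eq }
  haveI : Nontrivial L := L.toSubring.nontrivial
  haveI : IsDomain L := NoZeroDivisors.to_isDomain L
  haveI : Algebra.IsIntegral k L := Algebra.IsIntegral.of_finite k L
  exact isField_of_isIntegral_of_isField' (R := k) (S := L) (Field.toIsField k)

theorem finrank_adjoin [FiniteDimensional k A] (a : A) :
    Module.finrank k (Algebra.adjoin k ({a} : Set A)) = (minpoly k a).natDegree := by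
  have hi := Algebra.IsIntegral.isIntegral (R := k) a
  let f : AdjoinRoot (minpoly k a) →ₐ[k] A :=
    AlgHom.comp (Ideal.Quotient.liftₐ _ (Polynomial.aeval a) fun p hp => by
      obtain ⟨q, rfl⟩ := Ideal.mem_span_singleton'.1 hp
      rw [map_mul, minpoly.aeval, mul_zero]) (AlgHom.id k _)
  haveI : Fact (Irreducible (minpoly k a)) := ⟨minpoly.irreducible hi⟩
  have hr : f.range = Algebra.adjoin k ({a} : Set A) := by
    rw [Algebra.adjoin_singleton_eq_range_aeval]
    ext x
    constructor
    · rintro ⟨y, rfl⟩
      obtain ⟨q, rfl⟩ := Ideal.Quotient.mk_surjective y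
      exact ⟨q, rfl⟩
    · rintro ⟨q, rfl⟩
      exact ⟨AdjoinRoot.mk _ q, rfl⟩
  rw [← hr, ← (AlgEquiv.ofInjective f f.toRingHom.injective).toLinearEquiv.finrank_eq,
    (AdjoinRoot.powerBasis (minpoly.ne_zero hi)).finrank]
  exact AdjoinRoot.powerBasis_dim _

variable [Algebra.IsCentral k A] [FiniteDimensional k A] {n : ℕ}

/-- The degree of a subfield and the dimension of its centralizer. -/
theorem adjoin_centralizer (hA : Module.finrank k A = n * n) (a : A) :
    ∃ s : ℕ, n = (minpoly k a).natDegree * s ∧
      Module.finrank k (Subalgebra.centralizer k (Algebra.adjoin k ({a} : Set A) : Set A)) =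
        (minpoly k a).natDegree * (s * s) := by
  set L := Algebra.adjoin k ({a} : Set A) with hL
  let C := Subalgebra.centralizer k (L : Set A)
  haveI : IsSimpleRing L := by
    letI : Field L := (isField_adjoin a).toField
    infer_instance
  obtain ⟨hCs, hCd⟩ := CSALib.centralizer_simple_finrank L
  letI fL : Field L := (isField_adjoin a).toField
  have hLC : L ≤ C := fun x hx => (Subalgebra.mem_centralizer_iff k).2 fun y hy =>
    (Algebra.commute_of_mem_adjoin_singleton_of_commute hy
      (Algebra.commute_of_mem_adjoin_singleton_of_commute hx (Commute.refl a)).symm).eq.symm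
  letI : Algebra L C := RingHom.toAlgebra' (Subalgebra.inclusion hLC).toRingHom fun x c => Subtype.ext (by
    show (x : A) * c = c * x
    exact (Subalgebra.mem_centralizer_iff k).1 c.2 x x.2)
  haveI : IsScalarTower k L C := IsScalarTower.of_algebraMap_eq fun r => rfl
  haveI : Module.Finite L C := Module.Finite.of_restrictScalars_finite k L C
  haveI : Algebra.IsCentral L C := ⟨fun c hc => by
    have h1 : (c : A) ∈ Subalgebra.centralizer k (C : Set A) := (Subalgebra.mem_centralizer_iff k).2 fun y hy =>
      congrArg Subtype.val (Subalgebra.mem_center_iff.1 hc ⟨y, hy⟩)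
    rw [CSALib.centralizer_centralizer L] at h1
    exact ⟨⟨(c : A), h1⟩, rfl⟩⟩
  haveI : IsSimpleRing C := hCs
  obtain ⟨E, -, -, s, -, ⟨e⟩⟩ := CSALib.exists_galois_splitting (k := L) (A := C)
  have h2 : Module.finrank k C = (minpoly k a).natDegree * (s * s) := by
    rw [← Module.finrank_mul_finrank k L C, CSALib.finrank_of_splits e, finrank_adjoin]
  refine ⟨s, ?_, h2⟩
  refine Nat.mul_self_inj.1 ?_
  rw [← hA, ← hCd, h2, hL, finrank_adjoin]
  ring

theorem natDegree_dvd (hA : Module.finrank k A = n * n) (a : A) : (minpoly k a).natDegree ∣ n := by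
  obtain ⟨s, hs, -⟩ := adjoin_centralizer hA a
  exact ⟨s, hs⟩

/-- In prime degree the centralizer of a non-central element is commutative. -/
theorem commute_of_commute_prime {p : ℕ} (hp : p.Prime) (hA : Module.finrank k A = p * p) {a b c : A}
    (ha : a ∉ (algebraMap k A).range) (hb : Commute b a) (hc : Commute c a) : Commute b c := by
  obtain ⟨s, hs, hd⟩ := adjoin_centralizer hA a
  set L := Algebra.adjoin k ({a} : Set A)
  have hr : (minpoly k a).natDegree = p := ((hp.eq_one_or_self_of_dvd _ (natDegree_dvd hA a)).resolve_left fun h1 =>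
    ha (minpoly.natDegree_eq_one_iff.1 h1))
  have hs1 : s = 1 := by
    rw [hr] at hs
    exact (Nat.eq_of_mul_eq_mul_left hp.pos (by rw [mul_one]; exact hs)).symm
  rw [hs1, mul_one, mul_one] at hd
  have hle : L ≤ Subalgebra.centralizer k (L : Set A) := fun x hx => (Subalgebra.mem_centralizer_iff k).2 fun y hy =>
    (Algebra.commute_of_mem_adjoin_singleton_of_commute hy
      (Algebra.commute_of_mem_adjoin_singleton_of_commute hx (Commute.refl a)).symm).eq.symm
  have he : L = Subalgebra.centralizer k (L : Set A) :=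
    Subalgebra.eq_of_le_of_finrank_eq hle ((finrank_adjoin a).trans hd.symm)
  have hmem : ∀ x, Commute x a → x ∈ L := fun x hx => by
    rw [he]
    exact (Subalgebra.mem_centralizer_iff k).2 fun y hy =>
      (Algebra.commute_of_mem_adjoin_singleton_of_commute hy hx).eq.symm
  exact Algebra.commute_of_mem_adjoin_singleton_of_commute (hmem c hc) hb

theorem mem_range_of_commute_prime {p : ℕ} (hp : p.Prime) (hA : Module.finrank k A = p * p) {z a b : A}
    (hab : ¬ Commute a b) (ha : Commute z a) (hb : Commute z b) : z ∈ (algebraMap k A).range := by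
  by_contra hz
  exact hab (commute_of_commute_prime hp hA hz ha.symm hb.symm)

/-- A torsion class has order dividing the degree. -/
theorem pow_mem_range (hk : ∀ m : ℕ, 0 < m → (X ^ m - 1 : k[X]).Splits) (hA : Module.finrank k A = n * n)
    (a : A) {d : ℕ} (hd : 0 < d) (had : a ^ d ∈ (algebraMap k A).range) : a ^ n ∈ (algebraMap k A).range := by
  rcases eq_or_ne a 0 with rfl | ha
  · rcases Nat.eq_zero_or_pos n with h | h
    · rw [h, pow_zero]; exact one_mem _
    · rw [zero_pow h.ne']; exact zero_mem _
  set P := minpoly k a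
  obtain ⟨t, ht⟩ := natDegree_dvd hA a
  suffices h : a ^ P.natDegree ∈ (algebraMap k A).range by
    rw [ht, pow_mul]; exact pow_mem h t
  obtain ⟨c, hc⟩ := had
  let L := Algebra.adjoin k ({a} : Set A)
  letI : Field L := (isField_adjoin a).toField
  let α : L := ⟨a, Algebra.self_mem_adjoin_singleton k a⟩
  have hα : α ≠ 0 := fun h => ha (congrArg Subtype.val h)
  have hαd : α ^ d = algebraMap k L c := Subtype.ext hc.symm
  have hP : minpoly k α = P := (minpoly.algHom_eq L.val Subtype.val_injective α).symm
  have hPα := Algebra.IsIntegral.isIntegral (R := k) α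
  obtain ⟨R, hR⟩ : ∃ R : Multiset k, (X ^ d - 1 : k[X]) = (R.map fun ζ => X - C ζ).prod := by
    refine ⟨(X ^ d - 1 : k[X]).roots, ?_⟩
    have hm : (X ^ d - 1 : k[X]).Monic := by
      rw [← C_1]; exact monic_X_pow_sub_C 1 hd.ne'
    exact (hk d hd).eq_prod_roots_of_monic hm
  have hR0 : ∀ ζ ∈ R, ζ ≠ 0 := fun ζ hζ h0 => by
    have h1 := congrArg (Polynomial.eval ζ) hR
    rw [Polynomial.eval_multiset_prod, Multiset.prod_eq_zero (Multiset.mem_map.2 ⟨X - C ζ,
      Multiset.mem_map.2 ⟨ζ, hζ, rfl⟩, by simp⟩)] at h1
    simp [h0, zero_pow hd.ne'] at h1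
  have hfac : (X ^ d - C (α ^ d) : L[X]) =
      ((R.map fun ζ => α * algebraMap k L ζ).map fun r => X - C r).prod := by
    have h1 := congrArg (fun Q : k[X] => (Q.map (algebraMap k L)).scaleRoots α) hR
    have hs : ((R.map fun ζ => X - C ζ).prod.map (algebraMap k L)).scaleRoots α =
        ((R.map fun ζ => α * algebraMap k L ζ).map fun r => X - C r).prod := by
      clear h1 hR hR0
      induction R using Multiset.induction_on with
      | empty => simp
      | cons ζ R ih =>
        simp only [Multiset.map_cons, Multiset.prod_cons, Polynomial.map_mul, Polynomial.map_sub, map_X, map_C]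
        rw [mul_scaleRoots_of_noZeroDivisors, ih, X_sub_C_scaleRoots, mul_comm (algebraMap k L ζ)]
    rw [← hs, ← h1]
    ext i
    simp only [coeff_scaleRoots, Polynomial.map_sub, Polynomial.map_pow, map_X, Polynomial.map_one]
    rw [show (X ^ d - 1 : L[X]).natDegree = d by rw [← C_1, natDegree_X_pow_sub_C]]
    simp only [coeff_sub, coeff_X_pow, coeff_C, coeff_one]
    by_cases h0 : i = 0
    · subst h0; simp [hd.ne]
    · by_cases hi : i = d
      · subst hi; simp [hd.ne']
      · simp [h0, hi]
  have hdvd : P.map (algebraMap k L) ∣ (X ^ d - C (α ^ d) : L[X]) := by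
    have : P ∣ X ^ d - C c := by
      rw [← hP]
      refine minpoly.dvd k α ?_
      simp [hαd]
    simpa [hαd] using Polynomial.map_dvd (algebraMap k L) this
  have hsplit : (X ^ d - C (α ^ d) : L[X]).Splits := by
    rw [hfac]
    exact Polynomial.Splits.multisetProd fun f hf => by
      obtain ⟨r, -, rfl⟩ := Multiset.mem_map.1 hf
      exact Polynomial.Splits.X_sub_C r
  have hm : (P.map (algebraMap k L)).Monic := by rw [← hP]; exact (minpoly.monic hPα).map _
  have hne : (X ^ d - C (α ^ d) : L[X]) ≠ 0 := (monic_X_pow_sub_C _ hd.ne').ne_zero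
  have hPs := hsplit.of_dvd hne hdvd
  have hroots : (P.map (algebraMap k L)).roots ≤ R.map fun ζ => α * algebraMap k L ζ := by
    have := Polynomial.roots.le_of_dvd hne hdvd
    rwa [hfac, roots_multiset_prod_X_sub_C] at this
  obtain ⟨S, hS, hSr⟩ : ∃ S ≤ R, S.map (fun ζ => α * algebraMap k L ζ) = (P.map (algebraMap k L)).roots := by
    classical
    have hinj : Function.Injective fun ζ : k => α * algebraMap k L ζ :=
      (mul_right_injective₀ hα).comp (algebraMap k L).injective
    obtain ⟨S, hS⟩ : ∃ S : Multiset k, S.map (fun ζ => α * algebraMap k L ζ) = (P.map (algebraMap k L)).roots := by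
      refine ⟨((P.map (algebraMap k L)).roots).map (Function.invFun fun ζ => α * algebraMap k L ζ), ?_⟩
      rw [Multiset.map_map]
      refine (Multiset.map_congr rfl fun x hx => ?_).trans (Multiset.map_id _)
      obtain ⟨ζ, -, rfl⟩ := Multiset.mem_map.1 (Multiset.mem_of_le hroots hx)
      exact congrArg (fun ζ => α * algebraMap k L ζ) (Function.leftInverse_invFun hinj ζ)
    exact ⟨S, (Multiset.map_le_map_iff hinj).1 (hS ▸ hroots), hS⟩
  have hcard : (P.map (algebraMap k L)).roots.card = P.natDegree := by
    rw [← hPs.natDegree_eq_card_roots, natDegree_map]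
  have hconst : algebraMap k L ((-1 : k) ^ P.natDegree * P.coeff 0) = α ^ P.natDegree * algebraMap k L S.prod := by
    have hz := hPs.coeff_zero_eq_prod_roots_of_monic hm
    rw [coeff_map, natDegree_map, ← hSr, Multiset.prod_map_mul, Multiset.map_const', Multiset.prod_replicate,
      ← map_multiset_prod] at hz
    rw [show S.card = P.natDegree by rw [← hcard, ← hSr, Multiset.card_map]] at hz
    rw [map_mul, hz, map_pow, map_neg, map_one, ← mul_assoc, ← mul_pow, neg_one_mul, neg_neg, one_pow, one_mul]
  have hS0 : S.prod ≠ 0 := Multiset.prod_ne_zero fun h => hR0 0 (Multiset.mem_of_le hS h) rfl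
  refine ⟨(-1 : k) ^ P.natDegree * P.coeff 0 * S.prod⁻¹, ?_⟩
  have h2 : α ^ P.natDegree = algebraMap k L ((-1 : k) ^ P.natDegree * P.coeff 0 * S.prod⁻¹) := by
    rw [map_mul _ _ S.prod⁻¹, hconst, mul_assoc, ← map_mul, mul_inv_cancel₀ hS0, map_one, mul_one]
  exact (congrArg Subtype.val h2).symm

end Groth.Agent.SBAutLib
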