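import Groth.Agent.SBAutLib.Unbounded

/-!
# Wedderburn's lemma for division algebras of degree three
-/

set_option autoImplicit false
universe u

open Polynomial

noncomputable section

namespace Groth.Agent.SBAutLib

theorem mul_comm_of_mul_central {A : Type u} [DivisionRing A] {u v C : A} (hC : ∀ x : A, C * x = x * C)
    (h : u * v = C) : Commute u v := by
  rcases eq_or_ne u 0 with rfl | hu
  · exact Commute.zero_left v
  · refine (Eq.trans h ?_)
    refine mul_left_cancel₀ hu ?_
    rw [← mul_assoc, h, hC]

theorem conj_comm {A : Type u} [Ring A] {u v w S : A} (hS : ∀ x : A, S * x = x * S) (hsum : u + v + w = S)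
    (h : Commute w (v * u)) : (u * v - v * u) * u = v * (u * v - v * u) := by
  obtain rfl : w = S - u - v := by rw [← hsum]; abel
  have h1 : (S - u - v) * (v * u) = (v * u) * (S - u - v) := h.eq
  simp only [mul_sub, sub_mul, ← mul_assoc] at h1 ⊢
  have h2 := hS (v * u)
  rw [← mul_assoc] at h2
  linear_combination (norm := abel) h2 - h1

theorem bracket_rot {A : Type u} [Ring A] {u v w S : A} (hS : ∀ x : A, S * x = x * S) (hsum : u + v + w = S) :
    v * w - w * v = u * v - v * u := by
  obtain rfl : w = S - u - v := by rw [← hsum]; abel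
  simp only [mul_sub, sub_mul, hS]
  abel

variable {k : Type u} [Field k] {A : Type u} [DivisionRing A] [Algebra k A] [Algebra.IsCentral k A]
  [FiniteDimensional k A] (hA : Module.finrank k A = 3 * 3)

include hA

theorem natDegree_eq_three {a : A} (ha : a ∉ (algebraMap k A).range) : (minpoly k a).natDegree = 3 :=
  (Nat.prime_three.eq_one_or_self_of_dvd _ (natDegree_dvd hA a)).resolve_left fun h =>
    ha (minpoly.natDegree_eq_one_iff.1 h)

theorem mem_adjoin_of_commute {a b : A} (ha : a ∉ (algebraMap k A).range) (hb : Commute b a) :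
    b ∈ Algebra.adjoin k ({a} : Set A) := by
  obtain ⟨s, hs, hd⟩ := adjoin_centralizer hA a
  rw [natDegree_eq_three hA ha] at hs hd
  obtain rfl : s = 1 := by omega
  have hle : Algebra.adjoin k ({a} : Set A) ≤ Subalgebra.centralizer k (Algebra.adjoin k ({a} : Set A) : Set A) :=
    fun x hx => (Subalgebra.mem_centralizer_iff k).2 fun y hy =>
      (Algebra.commute_of_mem_adjoin_singleton_of_commute hy
        (Algebra.commute_of_mem_adjoin_singleton_of_commute hx (Commute.refl a)).symm).eq.symm
  rw [Subalgebra.eq_of_le_of_finrank_eq hle (by rw [finrank_adjoin, natDegree_eq_three hA ha, hd])]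
  exact (Subalgebra.mem_centralizer_iff k).2 fun y hy =>
    (Algebra.commute_of_mem_adjoin_singleton_of_commute hy hb).eq.symm

/-- The case of an element commuting with one of its other conjugates. -/
theorem cube_of_commuting_conjugate {a y : A} (ha : a ∉ (algebraMap k A).range) (hy : y ≠ 0)
    (hne : y * a ≠ a * y) (hc : Commute a (y * a * y⁻¹)) :
    ∃ w : A, w ∉ (algebraMap k A).range ∧ w ^ 3 ∈ (algebraMap k A).range := by
  have hyk : y ∉ (algebraMap k A).range := fun ⟨t, ht⟩ => hne (ht ▸ Algebra.commutes t a)
  have hnc : ¬ Commute a y := fun h => hne h.eq.symm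
  let σ : A →ₐ[k] A :=
    { toFun := fun x => y * x * y⁻¹
      map_one' := by rw [mul_one, mul_inv_cancel₀ hy]
      map_mul' := fun x z => by
        simp only [mul_assoc]; rw [← mul_assoc y⁻¹ y, inv_mul_cancel₀ hy, one_mul]
      map_zero' := by rw [mul_zero, zero_mul]
      map_add' := fun x z => by rw [mul_add, add_mul]
      commutes' := fun r => by rw [← Algebra.commutes r y, mul_assoc, mul_inv_cancel₀ hy, mul_one] }
  have hσi : Function.Injective σ := σ.toRingHom.injective
  have hfix : ∀ x, σ x = x → Commute y x := fun x hx => by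
    show y * x = x * y
    conv_rhs => rw [← hx]
    show y * x = y * x * y⁻¹ * y
    rw [inv_mul_cancel_right₀ hy]
  have hmem : ∀ x, x ∉ (algebraMap k A).range → σ x ∉ (algebraMap k A).range := fun x hx ⟨t, ht⟩ =>
    hx ⟨t, hσi ((σ.commutes t).trans ht)⟩
  have c01 : Commute a (σ a) := hc
  have c12 : Commute (σ a) (σ (σ a)) := c01.map σ
  have c02 : Commute a (σ (σ a)) :=
    commute_of_commute_prime Nat.prime_three hA (hmem a ha) c01 c12.symm
  have c23 : Commute (σ (σ a)) (σ (σ (σ a))) := c12.map σ
  have c03 : Commute a (σ (σ (σ a))) :=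
    commute_of_commute_prime Nat.prime_three hA (hmem _ (hmem a ha)) c02 c23.symm
  have n01 : a ≠ σ a := fun h => hne ((hfix a h.symm).eq)
  have n02 : a ≠ σ (σ a) := by
    intro h
    have h2 : Commute (y ^ 2) a := by
      show y ^ 2 * a = a * y ^ 2
      have e : σ (σ a) * y ^ 2 = y ^ 2 * a := by
        show y * (y * a * y⁻¹) * y⁻¹ * y ^ 2 = y ^ 2 * a
        rw [sq, ← mul_assoc (y * (y * a * y⁻¹) * y⁻¹), inv_mul_cancel_right₀ hy, mul_assoc y (y * a * y⁻¹),
          inv_mul_cancel_right₀ hy, mul_assoc]
      rw [← e, ← h]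
    obtain ⟨t, ht⟩ := mem_range_of_commute_prime Nat.prime_three hA hnc h2 ((Commute.refl y).pow_left 2)
    have hle := Polynomial.natDegree_le_of_dvd (minpoly.dvd k y (p := X ^ 2 - C t) (by simp [ht]))
      (monic_X_pow_sub_C t two_ne_zero).ne_zero
    rw [natDegree_eq_three hA hyk, natDegree_X_pow_sub_C] at hle
    omega
  have n12 : σ a ≠ σ (σ a) := fun h => n01 (hσi h)
  have n13 : σ a ≠ σ (σ (σ a)) := fun h => n02 (hσi h)
  have n23 : σ (σ a) ≠ σ (σ (σ a)) := fun h => n12 (hσi h)
  have h3 : σ (σ (σ a)) = a := by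
    classical
    by_contra n03
    let L := Algebra.adjoin k ({a} : Set A)
    letI : Field L := (isField_adjoin a).toField
    let i0 : L := ⟨a, Algebra.self_mem_adjoin_singleton k a⟩
    let i1 : L := ⟨σ a, mem_adjoin_of_commute hA ha c01.symm⟩
    let i2 : L := ⟨σ (σ a), mem_adjoin_of_commute hA ha c02.symm⟩
    let i3 : L := ⟨σ (σ (σ a)), mem_adjoin_of_commute hA ha c03.symm⟩
    set P := (minpoly k a).map (algebraMap k L) with hP
    have hP0 : P ≠ 0 := ((minpoly.monic (Algebra.IsIntegral.isIntegral a)).map _).ne_zero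
    have hroot : ∀ z : L, aeval (z : A) (minpoly k a) = 0 → z ∈ P.roots.toFinset := fun z hz => by
      rw [Multiset.mem_toFinset, mem_roots hP0, IsRoot, hP, eval_map_algebraMap]
      exact Subtype.val_injective ((Polynomial.aeval_algHom_apply L.val z _).symm.trans hz)
    have hσz : ∀ x, aeval x (minpoly k a) = 0 → aeval (σ x) (minpoly k a) = 0 := fun x hx => by
      rw [Polynomial.aeval_algHom_apply, hx, map_zero]
    have h4 : ({i0, i1, i2, i3} : Finset L) ⊆ P.roots.toFinset := by
      intro z hz
      simp only [Finset.mem_insert, Finset.mem_singleton] at hz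
      rcases hz with rfl | rfl | rfl | rfl
      · exact hroot _ (minpoly.aeval k a)
      · exact hroot _ (hσz _ (minpoly.aeval k a))
      · exact hroot _ (hσz _ (hσz _ (minpoly.aeval k a)))
      · exact hroot _ (hσz _ (hσz _ (hσz _ (minpoly.aeval k a))))
    have h5 : ({i0, i1, i2, i3} : Finset L).card = 4 := by
      have m03 : a ≠ σ (σ (σ a)) := fun h => n03 h.symm
      simp [i0, i1, i2, i3, n01, n02, m03, n12, n13, n23]
    have h6 := (Finset.card_le_card h4).trans ((Multiset.toFinset_card_le _).trans (card_roots' P))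
    rw [h5, hP, natDegree_map, natDegree_eq_three hA ha] at h6
    omega
  refine ⟨y, hyk, mem_range_of_commute_prime Nat.prime_three hA hnc ?_ ((Commute.refl y).pow_left 3)⟩
  show y ^ 3 * a = a * y ^ 3
  conv_rhs => rw [← h3]
  show y ^ 3 * a = y * (y * (y * a * y⁻¹) * y⁻¹) * y⁻¹ * y ^ 3
  simp [pow_succ, mul_assoc, hy]

/-- A cubic division algebra in characteristic three has a noncentral element with central cube. -/
theorem exists_cube_mem_range [CharP k 3] :
    ∃ w : A, w ∉ (algebraMap k A).range ∧ w ^ 3 ∈ (algebraMap k A).range := by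
  obtain ⟨a, ha⟩ := exists_notMem_range (k := k) (A := A) (by omega)
  set P := minpoly k a with hPdef
  have hi := Algebra.IsIntegral.isIntegral (R := k) a
  have hd : P.natDegree = 3 := natDegree_eq_three hA ha
  obtain ⟨s, q, N, hP⟩ : ∃ s q N : k, ∀ x : A, aeval x P =
      x * x * x - algebraMap k A s * (x * x) + algebraMap k A q * x - algebraMap k A N := by
    refine ⟨-P.coeff 2, P.coeff 1, -P.coeff 0, fun x => ?_⟩
    have hl : P.coeff 3 = 1 := by rw [← hd]; exact minpoly.monic hi
    rw [aeval_eq_sum_range, hd, Finset.sum_range_succ, Finset.sum_range_succ, Finset.sum_range_succ,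
      Finset.sum_range_one, hl]
    simp only [Algebra.smul_def, map_one, one_mul, pow_succ, pow_zero, map_neg, neg_mul, mul_one]
    abel
  have hroot : aeval a P = 0 := minpoly.aeval k a
  obtain ⟨y, hy⟩ := exists_noncommuting ha
  have hy0 : y ≠ 0 := fun h => hy (h ▸ Commute.zero_right a)
  have hne : y * a ≠ a * y := fun h => hy h.symm
  by_cases hc : Commute a (y * a * y⁻¹)
  · exact cube_of_commuting_conjugate hA ha hy0 hne hc
  set a' := y * a * y⁻¹ with ha'
  have hd0 : a' - a ≠ 0 := sub_ne_zero.2 fun h => hc (by rw [h])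
  have hroot' : aeval a' P = 0 := by
    have e : a' * y = y * a := by rw [ha', inv_mul_cancel_right₀ hy0]
    have e' : ∀ z w : A, z * y = y * w → ∀ Q : k[X], aeval z Q * y = y * aeval w Q := by
      intro z w hzw Q
      induction Q using Polynomial.induction_on' with
      | add p q hp hq => rw [map_add, map_add, add_mul, mul_add, hp, hq]
      | monomial j r =>
        rw [aeval_monomial, aeval_monomial, mul_assoc, ← mul_assoc y, ← Algebra.commutes r y, mul_assoc]
        congr 1
        induction j with
        | zero => simp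
        | succ j ih => rw [pow_succ, pow_succ, mul_assoc, hzw, ← mul_assoc, ih, mul_assoc]
    have := e' a' a e P
    rw [hroot, mul_zero] at this
    exact (mul_eq_zero.1 this).resolve_right hy0
  rw [hP] at hroot hroot'
  set b := (a' - a) * a' * (a' - a)⁻¹ with hb
  have hbd : b * (a' - a) = (a' - a) * a' := by rw [hb, inv_mul_cancel_right₀ hd0]
  generalize hS : algebraMap k A s = S at hroot hroot'
  generalize hQ : algebraMap k A q = Q at hroot hroot'
  generalize hN : algebraMap k A N = M at hroot hroot'
  have cS : ∀ x : A, S * x = x * S := hS ▸ Algebra.commutes s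
  have cM : ∀ x : A, M * x = x * M := hN ▸ Algebra.commutes N
  have cQ : ∀ x : A, Q * x = x * Q := hQ ▸ Algebra.commutes q
  have hb2 : b * b + (a - S) * b + (a * a - S * a + Q) = 0 := by
    refine (mul_eq_zero.1 ?_).resolve_right hd0
    rw [add_mul, add_mul, mul_assoc b b, hbd, ← mul_assoc b, hbd, mul_assoc (a - S) b, hbd]
    simp only [mul_sub, sub_mul, add_mul, ← mul_assoc]
    simp only [← mul_assoc] at hroot hroot'
    linear_combination (norm := abel) hroot' - hroot
  by_cases hba : b = a
  · refine ⟨a, ha, N, ?_⟩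
    rw [hba] at hb2
    have h3 : aeval a (C (3 : k) * X ^ 2 - C (2 * s) * X + C q : k[X]) = 0 := by
      simp only [map_sub, map_add, map_mul, aeval_C, aeval_X, map_pow, map_ofNat, hS, hQ]
      rw [show (3 : A) = 1 + 1 + 1 by norm_num, show (2 : A) = 1 + 1 by norm_num, sq]
      rw [sub_mul] at hb2
      simp only [add_mul, one_mul, ← mul_assoc]
      linear_combination (norm := abel) hb2
    have hdeg : (C (3 : k) * X ^ 2 - C (2 * s) * X + C q : k[X]) = 0 := by
      by_contra h0
      have := Polynomial.natDegree_le_of_dvd (minpoly.dvd k a h3) h0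
      have h4 : (C (3 : k) * X ^ 2 - C (2 * s) * X + C q : k[X]).natDegree ≤ 2 := by compute_degree
      rw [← hPdef, hd] at this
      omega
    have hq0 : q = 0 := by simpa using congrArg (fun f : k[X] => f.coeff 0) hdeg
    have hs0 : s = 0 := by
      have h : 2 * s = 0 := by simpa using congrArg (fun f : k[X] => f.coeff 1) hdeg
      refine (mul_eq_zero.1 h).resolve_left fun h2 => ?_
      have h3k : (3 : k) = 0 := by exact_mod_cast CharP.cast_eq_zero k 3
      exact one_ne_zero (α := k) (by linear_combination h3k - h2)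
    rw [← hS, hs0, ← hQ, hq0, map_zero, zero_mul, zero_mul, sub_zero, add_zero, sub_eq_zero] at hroot
    rw [hN, ← hroot]
    simp [pow_succ]
  have hyd : b * ((a' - a) * y) = ((a' - a) * y) * a := by
    rw [← mul_assoc b, hbd, mul_assoc _ a' y, show a' * y = y * a by rw [ha', inv_mul_cancel_right₀ hy0], ← mul_assoc]
  by_cases hcb : Commute a b
  · have hz : (a' - a) * y ≠ 0 := mul_ne_zero hd0 hy0
    refine cube_of_commuting_conjugate hA ha hz (fun h => hba ?_) ?_
    · exact mul_right_cancel₀ hz (hyd.trans h)
    · rw [← hyd, mul_inv_cancel_right₀ hz]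
      exact hcb
  let c := S - a - b
  have hsum : a + b + c = S := by simp only [c]; abel
  have hcb' : c * b = a * a - S * a + Q := by
    rw [show c * b = S * b - a * b - b * b by simp only [c, sub_mul]]
    rw [sub_mul] at hb2
    linear_combination (norm := abel) -hb2
  have h1 : Commute a (c * b) := by
    rw [hcb']
    show a * (a * a - S * a + Q) = (a * a - S * a + Q) * a
    rw [mul_add, add_mul, mul_sub, sub_mul, cQ, ← mul_assoc a S, ← cS]
    simp only [mul_assoc]
  have hcba : c * b * a = M := by
    rw [hcb', add_mul, sub_mul, mul_assoc S a a]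
    linear_combination (norm := abel) hroot
  have h0 : Commute c (b * a) := mul_comm_of_mul_central cM (by rw [← mul_assoc, hcba])
  have h2 : Commute b (a * c) := (mul_comm_of_mul_central cM (show a * c * b = M by
    rw [mul_assoc, h1.eq, hcba])).symm
  let x := a * b - b * a
  have e1 : x * a = b * x := conj_comm cS hsum h0
  have e2 : x * b = c * x := by
    have := conj_comm (u := b) (v := c) (w := a) cS (by rw [← hsum]; abel) h1
    rwa [bracket_rot cS hsum] at this
  have e3 : x * c = a * x := by
    have := conj_comm (u := c) (v := a) (w := b) cS (by rw [← hsum]; abel) h2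
    rwa [bracket_rot (u := b) (v := c) (w := a) cS (by rw [← hsum]; abel), bracket_rot cS hsum] at this
  have hx0 : x ≠ 0 := sub_ne_zero.2 hcb
  have hnax : ¬ Commute a x := fun h => hba (mul_right_cancel₀ hx0 (e1.symm.trans h.eq.symm))
  refine ⟨x, fun ⟨t, ht⟩ => hnax (ht ▸ Algebra.commute_algebraMap_right t a),
    mem_range_of_commute_prime Nat.prime_three hA hnax ?_ ((Commute.refl x).pow_left 3)⟩
  show x ^ 3 * a = a * x ^ 3
  rw [pow_succ, pow_succ, pow_one, mul_assoc (x * x), e1, ← mul_assoc, mul_assoc x x b, e2, ← mul_assoc x c, e3]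
  simp only [mul_assoc]

end Groth.Agent.SBAutLib
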