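import Groth.Agent.SBAutLib.DivAlg

/-!
# Finite groups of units modulo the centre in characteristic `p`
-/

set_option autoImplicit false
set_option maxHeartbeats 200000
universe u

noncomputable section

namespace Groth.Agent.SBAutLib

variable {k : Type u} [Field k] {p : ℕ} [Fact p.Prime] [CharP k p]
  {A : Type u} [DivisionRing A] [Algebra k A]

include k in
theorem eq_of_pow_char_pow_eq {u v : A} (h : Commute u v) {e : ℕ} (huv : u ^ p ^ e = v ^ p ^ e) : u = v := by
  haveI : CharP A p := charP_of_injective_algebraMap (algebraMap k A).injective p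
  have h1 : (u - v) ^ p ^ e = 0 := by rw [sub_pow_char_pow_of_commute p _ h, huv, sub_self]
  exact sub_eq_zero.1 (eq_zero_of_pow_eq_zero h1)

variable {Q : Type u} [Group Q] (π : Aˣ →* Q) (hπ : π.ker = (Units.map (algebraMap k A : k →* A)).range)

omit [Fact p.Prime] [CharP k p] in
include hπ in
theorem commute_of_mem_ker {z : Aˣ} (hz : π z = 1) (x : Aˣ) : Commute z x := by
  have hz' : z ∈ π.ker := hz
  rw [hπ] at hz'
  obtain ⟨c, rfl⟩ := hz'
  exact Units.ext (Algebra.commutes (c : k) (x : A))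

include hπ in
theorem comm_comap (S : Subgroup Q) [Finite S] (hS : IsPGroup p S) :
    ∀ x ∈ S.comap π, ∀ y ∈ S.comap π, x * y = y * x := by
  let Γ := S.comap π
  let f : Γ →* S := (π.comp Γ.subtype).codRestrict S fun x => x.2
  have hf : f.ker ≤ Subgroup.center Γ := fun z hz => Subgroup.mem_center_iff.2 fun x => Subtype.ext
    (commute_of_mem_ker π hπ (congrArg Subtype.val (MonoidHom.mem_ker.1 hz)) x.1).eq.symm
  haveI : Group.IsNilpotent S := hS.isNilpotent
  haveI : Group.IsNilpotent Γ := Subgroup.isNilpotent_of_ker_le_center f hf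
  have hstep : ∀ n, Subgroup.upperCentralSeries Γ n ≤ Subgroup.center Γ := by
    intro n
    induction n with
    | zero => rw [Subgroup.upperCentralSeries_zero]; exact bot_le
    | succ n ih =>
      intro x hx
      rw [Subgroup.mem_upperCentralSeries_succ_iff] at hx
      refine Subgroup.mem_center_iff.2 fun y => ?_
      have hz := ih (hx y)
      rw [commutatorElement_def] at hz
      set z := x * y * x⁻¹ * y⁻¹ with hzdef
      have hxy : x * y * x⁻¹ = z * y := by rw [hzdef, inv_mul_cancel_right]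
      obtain ⟨e, he⟩ := hS (f y)
      have hker : π ((y.1) ^ p ^ e) = 1 := by
        rw [map_pow]
        exact congrArg Subtype.val he
      have h1 : (z * y) ^ p ^ e = y ^ p ^ e := by
        have hc : x * y ^ p ^ e * x⁻¹ = y ^ p ^ e := by
          rw [mul_inv_eq_iff_eq_mul]
          exact Subtype.ext (commute_of_mem_ker π hπ hker x.1).eq.symm
        rw [← hxy, conj_pow, hc]
      have hzy : Commute z y := (Subgroup.mem_center_iff.1 hz y).symm
      rw [hzy.mul_pow, mul_eq_right] at h1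
      have h2 : ((z : Aˣ) : A) ^ p ^ e = (1 : A) ^ p ^ e := by
        rw [one_pow, ← Units.val_pow_eq_pow_val, ← SubgroupClass.coe_pow, h1]
        rfl
      have h3 : z = 1 := Subtype.ext (Units.ext (eq_of_pow_char_pow_eq (k := k) (Commute.one_right _) h2))
      rw [h3, one_mul, mul_inv_eq_iff_eq_mul] at hxy
      exact hxy.symm
  obtain ⟨n, hn⟩ := Group.IsNilpotent.nilpotent Γ
  intro x hx y hy
  exact (congrArg Subtype.val (Subgroup.mem_center_iff.1 (hstep n (hn.ge (Subgroup.mem_top (⟨x, hx⟩ : Γ)))) ⟨y, hy⟩)).symm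

include hπ in
theorem commute_of_normalizes (hsurj : Function.Surjective π) (S : Subgroup Q) [Finite S] (hS : IsPGroup p S)
    {g x : Q} (hx : x ∈ S) (hg : g * x * g⁻¹ ∈ S) : g * x = x * g := by
  obtain ⟨u, rfl⟩ := hsurj g
  obtain ⟨v, rfl⟩ := hsurj x
  have hw : u * v * u⁻¹ ∈ S.comap π := by rw [Subgroup.mem_comap, map_mul, map_mul, map_inv]; exact hg
  have hcomm := comm_comap π hπ S hS _ hw v hx
  obtain ⟨e, he⟩ := hS ⟨π v, hx⟩
  have hker : π (v ^ p ^ e) = 1 := by
    rw [map_pow]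
    exact congrArg Subtype.val he
  have h1 : (u * v * u⁻¹) ^ p ^ e = v ^ p ^ e := by
    rw [conj_pow, (commute_of_mem_ker π hπ hker u).eq.symm, mul_inv_cancel_right]
  have h2 : u * v * u⁻¹ = v := Units.ext (eq_of_pow_char_pow_eq (k := k)
    (show Commute ((u * v * u⁻¹ : Aˣ) : A) (v : A) from congrArg Units.val hcomm)
    (by rw [← Units.val_pow_eq_pow_val, h1, Units.val_pow_eq_pow_val]))
  rw [mul_inv_eq_iff_eq_mul] at h2
  rw [← map_mul, h2, map_mul]

include hπ in
/-- Finite groups of units modulo the centre have normal `p`-complements. -/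
theorem exists_semidirect (hsurj : Function.Surjective π) (G : Subgroup Q) [Finite G] :
    ∃ H S : Subgroup Q, H ≤ G ∧ S ≤ G ∧ (∀ g ∈ G, ∀ h ∈ H, g * h * g⁻¹ ∈ H) ∧ H ⊓ S = ⊥ ∧ H ⊔ S = G ∧
      (∀ h ∈ H, ((orderOf h : ℕ) : k) ≠ 0) ∧ (∀ s ∈ S, ∀ t ∈ S, s * t = t * s) ∧
      (∀ s ∈ S, ∃ j : ℕ, s ^ p ^ j = 1) := by
  obtain ⟨P⟩ : Nonempty (Sylow p G) := inferInstance
  let S : Subgroup Q := (P : Subgroup G).map G.subtype
  haveI : Finite S := Finite.of_equiv _ ((P : Subgroup G).equivMapOfInjective G.subtype Subtype.val_injective).toEquiv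
  have hS : IsPGroup p S := P.2.of_equiv ((P : Subgroup G).equivMapOfInjective G.subtype Subtype.val_injective)
  have hP : Subgroup.normalizer ((P : Subgroup G) : Set G) ≤ Subgroup.centralizer (P : Set G) := by
    intro g hg
    rw [Subgroup.mem_centralizer_iff]
    intro x hx
    refine Subtype.ext (commute_of_normalizes (g := g.1) (x := x.1) π hπ hsurj S hS ⟨x, hx, rfl⟩ ?_).symm
    exact ⟨g * x * g⁻¹, (Subgroup.mem_normalizer_iff.1 hg x).1 hx, rfl⟩
  obtain ⟨T, hTn, hc⟩ : ∃ T : Subgroup G, T.Normal ∧ T.IsComplement' (P : Subgroup G) :=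
    ⟨_, MonoidHom.normal_ker _, MonoidHom.ker_transferSylow_isComplement' P hP⟩
  let H : Subgroup Q := T.map G.subtype
  refine ⟨H, S, Subgroup.map_subtype_le _, Subgroup.map_subtype_le _, ?_, ?_, ?_, ?_, ?_, ?_⟩
  · rintro g hg _ ⟨h, hh, rfl⟩
    exact ⟨⟨g, hg⟩ * h * ⟨g, hg⟩⁻¹, hTn.conj_mem h hh _, rfl⟩
  · show T.map G.subtype ⊓ (P : Subgroup G).map G.subtype = ⊥
    rw [← Subgroup.map_inf _ _ _ Subtype.val_injective, hc.disjoint.eq_bot, Subgroup.map_bot]
  · show T.map G.subtype ⊔ (P : Subgroup G).map G.subtype = G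
    rw [← Subgroup.map_sup, hc.sup_eq_top, ← MonoidHom.range_eq_map, Subgroup.range_subtype]
  · rintro _ ⟨h, hh, rfl⟩
    rw [Ne, CharP.cast_eq_zero_iff k p, orderOf_injective G.subtype Subtype.val_injective h]
    intro hdiv
    apply P.not_dvd_index
    rw [hc.index_eq_card]
    refine hdiv.trans ?_
    rw [← Subgroup.orderOf_mk h hh]
    exact orderOf_dvd_natCard _
  · intro s hs t ht
    obtain ⟨u, rfl⟩ := hsurj s
    obtain ⟨v, rfl⟩ := hsurj t
    rw [← map_mul, ← map_mul, comm_comap π hπ S hS u hs v ht]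
  · intro s hs
    obtain ⟨j, hj⟩ := hS ⟨s, hs⟩
    exact ⟨j, congrArg Subtype.val hj⟩

end Groth.Agent.SBAutLib
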