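import Groth.Agent.SBSplitLib.Main
import Groth.Agent.HilbDescLib.AffinePoints

/-!
# The action of units on the functor of left ideals
-/

set_option autoImplicit false
set_option backward.isDefEq.respectTransparency false
set_option linter.style.haveILetI false
universe u

open CategoryTheory AlgebraicGeometry
open Groth.Agent.HilbDescLib
open scoped TensorProduct

noncomputable section

namespace Groth.Agent.SBAutLib

variable {k : Type u} [Field k] {A : Type u} [Ring A] [Algebra k A]
  {R : Type u} [CommRing R] [Algebra k R] {c : ℕ}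

/-- Right multiplication by a unit. -/
def mulR (y : (R ⊗[k] A)ˣ) : (R ⊗[k] A) ≃ₗ[R] (R ⊗[k] A) where
  toFun x := x * y
  invFun x := x * (y⁻¹ : (R ⊗[k] A)ˣ)
  map_add' x z := add_mul x z _
  map_smul' r x := smul_mul_assoc r x _
  left_inv x := Units.mul_inv_cancel_right x y
  right_inv x := Units.inv_mul_cancel_right x y

/-- The translate of an ideal. -/
def act (y : (R ⊗[k] A)ˣ) (N : BrSev.SBSet k A c R) : BrSev.SBSet k A c R :=
  let e := mulR y
  let q := Submodule.Quotient.equiv N.1.toSubmodule (N.1.toSubmodule.map e.toLinearMap) e rfl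
  haveI := N.1.finite_quotient
  haveI := N.1.projective_quotient
  ⟨{ toSubmodule := N.1.toSubmodule.map e.toLinearMap
     finite_quotient := Module.Finite.equiv q
     projective_quotient := Module.Projective.of_equiv q
     rankAtStalk_eq := fun p => by rw [← Module.rankAtStalk_eq_of_equiv q, N.1.rankAtStalk_eq] },
   by
    rintro a _ ⟨x, hx, rfl⟩
    exact ⟨a * x, N.2 a x hx, mul_assoc a x _⟩⟩

theorem ext_set {N N' : BrSev.SBSet k A c R} (h : N.1.toSubmodule = N'.1.toSubmodule) : N = N' :=
  Subtype.ext (Module.Grassmannian.ext h)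

theorem mem_act {y : (R ⊗[k] A)ˣ} {N : BrSev.SBSet k A c R} {x : R ⊗[k] A} :
    x ∈ (act y N).1.toSubmodule ↔ x * (y⁻¹ : (R ⊗[k] A)ˣ) ∈ N.1.toSubmodule := by
  constructor
  · rintro ⟨z, hz, rfl⟩
    show z * (y : R ⊗[k] A) * _ ∈ _
    rwa [Units.mul_inv_cancel_right]
  · intro h
    exact ⟨_, h, Units.inv_mul_cancel_right x y⟩

theorem act_mul (y z : (R ⊗[k] A)ˣ) (N : BrSev.SBSet k A c R) : act (y * z) N = act z (act y N) :=
  ext_set (SetLike.ext fun x => by rw [mem_act, mem_act, mem_act, mul_inv_rev, Units.val_mul, mul_assoc])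

theorem act_one (N : BrSev.SBSet k A c R) : act 1 N = N :=
  ext_set (SetLike.ext fun x => by rw [mem_act, inv_one, Units.val_one, mul_one])

/-- Change of rings on units. -/
abbrev pushU {S : Type u} [CommRing S] [Algebra k S] (φ : R →ₐ[k] S) (y : (R ⊗[k] A)ˣ) : (S ⊗[k] A)ˣ :=
  Units.map (Algebra.TensorProduct.map φ (AlgHom.id k A) : R ⊗[k] A →* S ⊗[k] A) y

theorem map_act {S : Type u} [CommRing S] [Algebra k S] (φ : R →ₐ[k] S) (y : (R ⊗[k] A)ˣ)
    (N : BrSev.SBSet k A c R) (N' : BrSev.SBSet k A c S)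
    (hN : N'.1.toSubmodule = (Module.Grassmannian.map φ N.1).toSubmodule) :
    (Module.Grassmannian.map φ (act y N).1).toSubmodule = (act (pushU φ y) N').1.toSubmodule := by
  letI : Algebra R S := φ.toAlgebra
  haveI : IsScalarTower k R S := IsScalarTower.of_algebraMap_eq' (IsScalarTower.algebraMap_eq k R S)
  let M := Algebra.TensorProduct.map φ (AlgHom.id k A)
  have hb : ∀ (L : Submodule R (R ⊗[k] A)) (z : R ⊗[k] A),
      Module.Grassmannian.baseChangeMkQ S L (M z) = (1 : S) ⊗ₜ[R] Submodule.Quotient.mk z := by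
    intro L z
    induction z using TensorProduct.induction_on with
    | zero => simp
    | tmul r a =>
      have h1 : r ⊗ₜ[k] a = r • ((1 : R) ⊗ₜ[k] a) := by rw [TensorProduct.smul_tmul', smul_eq_mul, mul_one]
      show Module.Grassmannian.baseChangeMkQ S L (φ r ⊗ₜ[k] a) = _
      rw [h1, Submodule.Quotient.mk_smul, TensorProduct.tmul_smul,
        TensorProduct.smul_tmul', Algebra.smul_def, mul_one]
      simp [Module.Grassmannian.baseChangeMkQ]
      rfl
    | add x z hx hz => rw [map_add, map_add, hx, hz, Submodule.Quotient.mk_add, TensorProduct.tmul_add]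
  let q := Submodule.Quotient.equiv N.1.toSubmodule (act y N).1.toSubmodule (mulR y) rfl
  have key : ∀ x : S ⊗[k] A, Module.Grassmannian.baseChangeMkQ S (act y N).1.toSubmodule (x * (pushU φ y : S ⊗[k] A)) =
      (q.toLinearMap.baseChange S) (Module.Grassmannian.baseChangeMkQ S N.1.toSubmodule x) := by
    intro x
    induction x using TensorProduct.induction_on with
    | zero => simp
    | tmul s a =>
      have h1 : s ⊗ₜ[k] a = s • M ((1 : R) ⊗ₜ[k] a) := by
        show _ = s • (φ 1 ⊗ₜ[k] a)
        rw [map_one, TensorProduct.smul_tmul', smul_eq_mul, mul_one]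
      rw [h1, smul_mul_assoc, map_smul, map_smul, map_smul]
      congr 1
      show Module.Grassmannian.baseChangeMkQ S _ (M _ * M (y : R ⊗[k] A)) = _
      rw [← map_mul, hb, hb, LinearMap.baseChange_tmul]
      rfl
    | add x z hx hz => rw [add_mul, map_add, map_add, hx, hz, map_add]
  have hq : Function.Injective (q.toLinearMap.baseChange S) :=
    Function.LeftInverse.injective (g := q.symm.toLinearMap.baseChange S) fun w => by
      rw [← LinearMap.comp_apply, ← LinearMap.baseChange_comp, q.symm_comp, LinearMap.baseChange_id]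
      rfl
  ext x
  rw [mem_act, hN, Module.Grassmannian.map_toSubmodule, Module.Grassmannian.map_toSubmodule, LinearMap.mem_ker,
    LinearMap.mem_ker]
  conv_lhs => rw [← Units.inv_mul_cancel_right x (pushU φ y), key]
  exact map_eq_zero_iff _ hq

/-- The unit acting on points with values in an algebra. -/
abbrev unitAt (R : Type u) [CommRing R] [Algebra k R] (a : Aˣ) : (R ⊗[k] A)ˣ :=
  Units.map (Algebra.TensorProduct.includeRight : A →ₐ[k] R ⊗[k] A).toMonoidHom a⁻¹

theorem pushU_unitAt {S : Type u} [CommRing S] [Algebra k S] (φ : R →ₐ[k] S) (a : Aˣ) :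
    pushU φ (unitAt R a) = unitAt S a := Units.ext (by
  show φ 1 ⊗ₜ[k] ((a⁻¹ : Aˣ) : A) = (1 : S) ⊗ₜ[k] ((a⁻¹ : Aˣ) : A)
  rw [map_one])

theorem unitAt_mul (a b : Aˣ) : unitAt (k := k) R (a * b) = unitAt R b * unitAt R a := by
  rw [unitAt, mul_inv_rev, map_mul]

variable {X : Scheme.{u}} {f : X ⟶ Spec (CommRingCat.of k)} (s : BrSev.SBStr k A c f)

/-- Composing a point with an endomorphism over the base. -/
def ptComp (x : BrSev.Pts f R) (g : Over.mk f ⟶ Over.mk f) : BrSev.Pts f R :=
  ⟨x.1 ≫ g.left, by rw [Category.assoc, show g.left ≫ f = f from Over.w g]; exact x.2⟩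

/-- A test point as a point. -/
def ptOf {B : CommAlgCat.{u} k} (g : test B ⟶ Over.mk f) : BrSev.Pts f B := ⟨g.left, Over.w g⟩

theorem ptOf_comp {B B' : CommAlgCat.{u} k} (h : test B' ⟶ test B) (g : test B ⟶ Over.mk f) :
    ptOf (h ≫ g) = BrSev.Pts.map f (testHom h).hom (ptOf g) := Subtype.ext (by
  show h.left ≫ g.left = _
  rw [testHom_left h]
  rfl)

theorem exists_autHom (a : Aˣ) : ∃ g : Over.mk f ⟶ Over.mk f,
    ∀ (R : Type u) [CommRing R] [Algebra k R] (x : BrSev.Pts f R),
      s.bij R (ptComp x g) = act (unitAt R a) (s.bij R x) := by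
  let η : ∀ B : CommAlgCat.{u} k, (test B ⟶ Over.mk f) → (test B ⟶ Over.mk f) := fun B g =>
    Over.homMk ((s.bij B).symm (act (unitAt B a) (s.bij B (ptOf g)))).1
      ((s.bij B).symm (act (unitAt B a) (s.bij B (ptOf g)))).2
  have hη : ∀ (B : CommAlgCat.{u} k) (g : test B ⟶ Over.mk f),
      s.bij B (ptOf (η B g)) = act (unitAt B a) (s.bij B (ptOf g)) := fun B g =>
    (s.bij B).apply_symm_apply _
  obtain ⟨g, hg⟩ := exists_hom_of_points η fun B B' h x => Over.OverMorphism.ext (congrArg Subtype.val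
    (show ptOf (η B' (h ≫ x)) = ptOf (h ≫ η B x) from (s.bij B').injective (ext_set (by
      rw [hη, ptOf_comp h (η B x), s.natural, hη, map_act _ _ _ (s.bij B' (ptOf (h ≫ x))) (by rw [ptOf_comp, s.natural]),
        pushU_unitAt]))))
  refine ⟨g, fun R _ _ x => ?_⟩
  let x' : test (CommAlgCat.of k R) ⟶ Over.mk f := Over.homMk x.1 x.2
  have h := hη (CommAlgCat.of k R) x'
  rw [← hg] at h
  exact h

theorem hom_ext_pts {g g' : Over.mk f ⟶ Over.mk f}
    (h : ∀ (R : Type u) [CommRing R] [Algebra k R] (x : BrSev.Pts f R),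
      s.bij R (ptComp x g) = s.bij R (ptComp x g')) : g = g' :=
  hom_ext_points fun B x => Over.OverMorphism.ext
    (congrArg Subtype.val ((s.bij B).injective (h B (ptOf x))))

theorem exists_autMonoidHom : ∃ ξ : Aˣ →* Aut (Over.mk f),
    ∀ (a : Aˣ) (R : Type u) [CommRing R] [Algebra k R] (x : BrSev.Pts f R),
      s.bij R (ptComp x (ξ a).hom) = act (unitAt R a) (s.bij R x) := by
  choose g hg using exists_autHom s
  have hmul : ∀ a b, g (a * b) = g b ≫ g a := fun a b => hom_ext_pts s fun R _ _ x => by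
    rw [hg, unitAt_mul, act_mul, ← hg b R x, ← hg a R]
    congr 1
  have hone : g 1 = 𝟙 _ := hom_ext_pts s fun R _ _ x => by
    rw [hg, unitAt, inv_one, map_one, act_one]
    congr 1
  refine ⟨{ toFun := fun a => ⟨g a, g a⁻¹, by rw [← hmul, inv_mul_cancel, hone], by rw [← hmul, mul_inv_cancel, hone]⟩
            map_one' := Iso.ext hone
            map_mul' := fun a b => Iso.ext (hmul a b) }, hg⟩

end Groth.Agent.SBAutLib
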