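import Groth.Agent.SBAutLib.Act
import Groth.Agent.PnAutLib.Surj
import Groth.Agent.CSADescent.Basic

/-!
# Automorphisms of Severi–Brauer schemes come from the units of the algebra
-/

set_option autoImplicit false
set_option backward.isDefEq.respectTransparency false
set_option linter.style.haveILetI false
set_option linter.unusedSectionVars false
set_option maxHeartbeats 100000
universe u

open CategoryTheory CategoryTheory.Limits AlgebraicGeometry
open Groth.Agent Groth.Agent.SBSplitLib Groth.Agent.PnAutLib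
open scoped TensorProduct Matrix

noncomputable section

namespace Groth.Agent.SBAutLib

theorem rows_map_mul {R : Type u} [CommRing R] {n : ℕ} (v : Fin n → R) (Q : (Matrix (Fin n) (Fin n) R)ˣ) :
    (rows v).map (LinearMap.mulRight R (Q : Matrix (Fin n) (Fin n) R)) = rows (v ᵥ* (Q : Matrix (Fin n) (Fin n) R)) := by
  ext M
  constructor
  · rintro ⟨_, ⟨a, rfl⟩, rfl⟩
    exact ⟨a, (Matrix.vecMulVec_mul a v _).symm⟩
  · rintro ⟨a, rfl⟩
    exact ⟨Matrix.vecMulVec a v, ⟨a, rfl⟩, Matrix.vecMulVec_mul a v _⟩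

theorem eq_scalar_of_mulVec {K : Type u} [Field K] {n : ℕ} [NeZero n] (Z : Matrix (Fin n) (Fin n) K)
    (h : ∀ v : Fin n → K, v ≠ 0 → ∃ s : K, Z *ᵥ v = s • v) : ∃ r : K, Z = Matrix.scalar (Fin n) r := by
  choose s hs using fun c => h (Pi.single c 1) (by simp)
  obtain ⟨r, hr⟩ := h (fun _ => 1) (fun h0 => one_ne_zero (congrFun h0 0))
  have hcol : ∀ i c, Z i c = if i = c then s c else 0 := fun i c => by
    have := congrFun (hs c) i
    simpa [Pi.single_apply] using this
  have hrr : ∀ c, s c = r := fun c => by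
    have := congrFun hr c
    simpa [Matrix.mulVec, dotProduct, hcol] using this
  refine ⟨r, Matrix.ext fun i c => ?_⟩
  simp [Matrix.scalar, Matrix.diagonal_apply, hcol, hrr]

variable {k : Type u} [Field k] {A : Type u} [Ring A] [Algebra k A] {E : Type u} [Field E] [Algebra k E]
  {m : ℕ} (φ : E ⊗[k] A ≃ₐ[E] Matrix (Fin (m + 1)) (Fin (m + 1)) E)
  {X : Scheme.{u}} {f : X ⟶ Spec (CommRingCat.of k)}
  (s : BrSev.SBStr k A ((m + 1) * (m + 1) - (m + 1)) f)

local notation "ℙm" => CohB1.ProjSpace m E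

/-- The projection of the projective space onto the Severi–Brauer scheme. -/
def q : ℙm ⟶ X := Φ (lineData φ s) ≫ BrSev.proj f E

theorem q_comp : q φ s ≫ f = CohB1.ProjSpace.toSpec m E ≫ Spec.map (CommRingCat.ofHom (algebraMap k E)) := by
  rw [q, Category.assoc, pullback.condition, ← Category.assoc, Φ_comp]

theorem q_comp_hom (g : Over.mk f ⟶ Over.mk f) :
    (q φ s ≫ g.left) ≫ f = CohB1.ProjSpace.toSpec m E ≫ Spec.map (CommRingCat.ofHom (algebraMap k E)) := by
  rw [Category.assoc, show g.left ≫ f = f from Over.w g, q_comp]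

/-- The endomorphism of the projective space above an endomorphism. -/
def gl (g : Over.mk f ⟶ Over.mk f) : ℙm ⟶ ℙm :=
  haveI := isIso_Φ (lineData φ s)
  pullback.lift (q φ s ≫ g.left) (CohB1.ProjSpace.toSpec m E) (q_comp_hom φ s g) ≫ inv (Φ (lineData φ s))

theorem gl_Φ (g : Over.mk f ⟶ Over.mk f) : gl φ s g ≫ Φ (lineData φ s) =
    pullback.lift (q φ s ≫ g.left) (CohB1.ProjSpace.toSpec m E) (q_comp_hom φ s g) := by
  haveI := isIso_Φ (lineData φ s)
  rw [gl, Category.assoc, IsIso.inv_hom_id, Category.comp_id]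

theorem gl_toSpec (g : Over.mk f ⟶ Over.mk f) :
    gl φ s g ≫ CohB1.ProjSpace.toSpec m E = CohB1.ProjSpace.toSpec m E := by
  rw [← Φ_comp (lineData φ s), ← Category.assoc, gl_Φ, pullback.lift_snd, Φ_comp]

theorem gl_q (g : Over.mk f ⟶ Over.mk f) : gl φ s g ≫ q φ s = q φ s ≫ g.left := by
  rw [q, ← Category.assoc, gl_Φ, pullback.lift_fst]
  rfl

theorem gl_comp (g g' : Over.mk f ⟶ Over.mk f) : gl φ s (g ≫ g') = gl φ s g ≫ gl φ s g' := by
  haveI := isIso_Φ (lineData φ s)
  rw [← cancel_mono (Φ (lineData φ s)), gl_Φ, Category.assoc, gl_Φ]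
  apply pullback.hom_ext
  · rw [pullback.lift_fst, Category.assoc, pullback.lift_fst, ← Category.assoc, gl_q, Category.assoc]
    rfl
  · rw [pullback.lift_snd, Category.assoc, pullback.lift_snd, gl_toSpec]

theorem gl_id : gl φ s (𝟙 _) = 𝟙 ℙm := by
  haveI := isIso_Φ (lineData φ s)
  rw [← cancel_mono (Φ (lineData φ s)), gl_Φ, Category.id_comp]
  apply pullback.hom_ext
  · rw [pullback.lift_fst]
    exact Category.comp_id _
  · rw [pullback.lift_snd, Φ_comp]

theorem isIso_gl (g : Over.mk f ⟶ Over.mk f) [IsIso g] : IsIso (gl φ s g) :=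
  ⟨gl φ s (inv g), by rw [← gl_comp, IsIso.hom_inv_id, gl_id], by rw [← gl_comp, IsIso.inv_hom_id, gl_id]⟩

theorem gl_injective {g g' : Over.mk f ⟶ Over.mk f} (h : gl φ s g = gl φ s g') : g = g' := by
  haveI := isIso_Φ (lineData φ s)
  haveI : Flat (Spec.map (CommRingCat.ofHom (algebraMap k E))) :=
    (HasRingHomProperty.Spec_iff (P := @Flat)).2 (RingHom.flat_algebraMap_iff.2 inferInstance)
  haveI : Surjective (Spec.map (CommRingCat.ofHom (algebraMap k E))) := ⟨fun x => ⟨default, by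
    haveI : Subsingleton (Spec (CommRingCat.of k)) := inferInstanceAs (Subsingleton (PrimeSpectrum k))
    exact Subsingleton.elim _ _⟩⟩
  haveI : Epi (BrSev.proj f E) := Flat.epi_of_flat_of_surjective _
  haveI : Epi (q φ s) := epi_comp _ _
  refine Over.OverMorphism.ext ((cancel_epi (q φ s)).1 ?_)
  rw [← gl_q, ← gl_q, h]

variable {F : Type u} [CommRing F] [Algebra E F]

theorem q_point_comp (x : Spec (CommRingCat.of F) ⟶ ℙm)
    (hx : x ≫ CohB1.ProjSpace.toSpec m E = Spec.map (CommRingCat.ofHom (algebraMap E F))) :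
    (x ≫ q φ s) ≫ f = Spec.map (CommRingCat.ofHom (algebraMap E F)) ≫ Spec.map (CommRingCat.ofHom (algebraMap k E)) := by
  rw [Category.assoc, q_comp, ← Category.assoc, hx]

theorem N_comp_Φ (x : Spec (CommRingCat.of F) ⟶ ℙm)
    (hx : x ≫ CohB1.ProjSpace.toSpec m E = Spec.map (CommRingCat.ofHom (algebraMap E F))) :
    (lineData φ s).N (x ≫ Φ (lineData φ s)) =
      ideal φ s (CommRingCat.ofHom (algebraMap E F)) (x ≫ q φ s) (q_point_comp φ s x hx) := by
  refine ideal_congr φ s ?_ (Category.assoc _ _ _) (point_comp _)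
  rw [Category.assoc, Φ_comp, hx, Spec.preimage_map]

theorem point_comp_toSpec' (v : Fin (m + 1) → F) (c : Fin (m + 1)) (hc : IsUnit (v c)) :
    ProjMap.point (R := E) v c hc ≫ CohB1.ProjSpace.toSpec m E = Spec.map (CommRingCat.ofHom (algebraMap E F)) :=
  ProjMap.point_toSpec v c hc

theorem ideal_point (v : Fin (m + 1) → F) (c : Fin (m + 1)) (hc : IsUnit (v c)) :
    ideal φ s (CommRingCat.ofHom (algebraMap E F)) (ProjMap.point (R := E) v c hc ≫ q φ s)
      (q_point_comp φ s _ (point_comp_toSpec' v c hc)) = rows v := by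
  rw [← N_comp_Φ φ s _ (point_comp_toSpec' v c hc), ProjMap.point, Category.assoc]
  refine (congrArg (lineData φ s).N (congrArg (Spec.map _ ≫ ·) (chart_Φ (lineData φ s) c))).trans ?_
  rw [N_chartPt_comp]
  refine (rows_eq_of_smul hc fun i => ?_).symm
  have h := ProjMap.evalAway_mk (v := v) (ProjMap.X_mem c) (by simpa using hc) 1 (MvPolynomial.X i)
    (by simpa using ProjMap.X_mem (R := E) i)
  simp only [MvPolynomial.aeval_X, pow_one] at h
  rw [mul_comm]
  exact h.symm

theorem eq_of_ideal {x y : Spec (CommRingCat.of F) ⟶ ℙm}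
    (hx : x ≫ CohB1.ProjSpace.toSpec m E = Spec.map (CommRingCat.ofHom (algebraMap E F)))
    (hy : y ≫ CohB1.ProjSpace.toSpec m E = Spec.map (CommRingCat.ofHom (algebraMap E F)))
    (h : ideal φ s (CommRingCat.ofHom (algebraMap E F)) (x ≫ q φ s) (q_point_comp φ s x hx) =
      ideal φ s (CommRingCat.ofHom (algebraMap E F)) (y ≫ q φ s) (q_point_comp φ s y hy)) : x = y := by
  haveI := isIso_Φ (lineData φ s)
  refine (cancel_mono (Φ (lineData φ s))).1 ((lineData φ s).inj _ _ ?_ ?_)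
  · rw [Category.assoc, Category.assoc, Φ_comp, hx, hy]
  · rw [N_comp_Φ φ s x hx, N_comp_Φ φ s y hy, h]

variable (ξ : Aˣ →* Aut (Over.mk f))
  (hξ : ∀ (a : Aˣ) (R : Type u) [CommRing R] [Algebra k R] (x : BrSev.Pts f R),
      s.bij R (ptComp x (ξ a).hom) = act (unitAt R a) (s.bij R x))

/-- The matrix of a unit. -/
def matOf (a : Aˣ) : GL (Fin (m + 1)) E :=
  ⟨((φ ((unitAt (k := k) E a : (E ⊗[k] A)ˣ) : E ⊗[k] A)))ᵀ, (φ (((unitAt (k := k) E a)⁻¹ : (E ⊗[k] A)ˣ) : E ⊗[k] A))ᵀ,
    by rw [← Matrix.transpose_mul, ← map_mul, Units.inv_mul, map_one, Matrix.transpose_one],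
    by rw [← Matrix.transpose_mul, ← map_mul, Units.mul_inv, map_one, Matrix.transpose_one]⟩

include hξ in
theorem ideal_aut (a : Aˣ) (h : Spec (CommRingCat.of F) ⟶ X)
    (w : h ≫ f = Spec.map (CommRingCat.ofHom (algebraMap E F)) ≫ Spec.map (CommRingCat.ofHom (algebraMap k E)))
    (w' : (h ≫ (ξ a).hom.left) ≫ f = Spec.map (CommRingCat.ofHom (algebraMap E F)) ≫ Spec.map (CommRingCat.ofHom (algebraMap k E))) :
    ideal φ s (CommRingCat.ofHom (algebraMap E F)) (h ≫ (ξ a).hom.left) w' =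
      (ideal φ s (CommRingCat.ofHom (algebraMap E F)) h w).map
        (LinearMap.mulRight F ((φ ((1 : E) ⊗ₜ[k] ((a⁻¹ : Aˣ) : A))).map (algebraMap E F))) := by
  let α := CommRingCat.ofHom (algebraMap E F)
  letI : Algebra E (CommRingCat.of F) := α.hom.toAlgebra
  letI : Algebra k (CommRingCat.of F) := (α.hom.comp (algebraMap k E)).toAlgebra
  haveI : IsScalarTower k E (CommRingCat.of F) := IsScalarTower.of_algebraMap_eq' rfl
  show (s.bij (CommRingCat.of F) (ptComp ⟨h, w.trans (Spec.map_comp _ _).symm⟩ (ξ a).hom)).1.toSubmodule.map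
      (theta φ (CommRingCat.of F)).toLinearEquiv.toLinearMap =
    ((s.bij (CommRingCat.of F) ⟨h, w.trans (Spec.map_comp _ _).symm⟩).1.toSubmodule.map
      (theta φ (CommRingCat.of F)).toLinearEquiv.toLinearMap).map _
  rw [hξ, ← Submodule.map_comp]
  show (Submodule.map _ _).map _ = _
  rw [← Submodule.map_comp]
  congr 1
  refine LinearMap.ext fun x => ?_
  show theta φ (CommRingCat.of F) (x * _) = theta φ (CommRingCat.of F) x * _
  rw [map_mul]
  congr 1
  exact (thetaHom_tmul φ (CommRingCat.of F) (1 : CommRingCat.of F) ((a⁻¹ : Aˣ) : A)).trans (one_smul _ _)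

include hξ in
theorem point_gl_aut {F : Type u} [Field F] [Algebra E F] (a : Aˣ) (v : Fin (m + 1) → F) (c : Fin (m + 1))
    (hc : IsUnit (v c)) :
    ProjMap.point (R := E) v c hc ≫ gl φ s (ξ a).hom = ProjMap.point (R := E) v c hc ≫ Lin (matOf φ a) := by
  let Q : Matrix (Fin (m + 1)) (Fin (m + 1)) F := (φ ((1 : E) ⊗ₜ[k] ((a⁻¹ : Aˣ) : A))).map (algebraMap E F)
  let Qu : (Matrix (Fin (m + 1)) (Fin (m + 1)) F)ˣ :=
    Units.map ((algebraMap E F).mapMatrix.comp φ.toRingEquiv.toRingHom).toMonoidHom (unitAt (k := k) E a)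
  let Qi : Matrix (Fin (m + 1)) (Fin (m + 1)) F := ((Qu⁻¹ : (Matrix (Fin (m + 1)) (Fin (m + 1)) F)ˣ) : _)
  have hQ : Q * Qi = 1 := Qu.mul_inv
  have hne : v ᵥ* Q ≠ 0 := fun h0 => by
    have h1 : v ᵥ* Q ᵥ* Qi = 0 := by rw [h0, Matrix.zero_vecMul]
    rw [Matrix.vecMul_vecMul, hQ, Matrix.vecMul_one] at h1
    exact hc.ne_zero (congrFun h1 c)
  obtain ⟨b, hb⟩ : ∃ b, (v ᵥ* Q) b ≠ 0 := Function.ne_iff.1 hne
  have hL : ProjMap.point (R := E) v c hc ≫ Lin (matOf φ a) = ProjMap.point (v ᵥ* Q) b (IsUnit.mk0 _ hb) := by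
    refine point_Lin _ v c hc _ ?_ b _
    show ((φ ((1 : E) ⊗ₜ[k] ((a⁻¹ : Aˣ) : A)))ᵀ.map (algebraMap E F)) *ᵥ v = _
    rw [Matrix.transpose_map, Matrix.mulVec_transpose]
  rw [hL]
  have hx : (ProjMap.point (R := E) v c hc ≫ gl φ s (ξ a).hom) ≫ CohB1.ProjSpace.toSpec m E =
      Spec.map (CommRingCat.ofHom (algebraMap E F)) := by
    rw [Category.assoc, gl_toSpec, ProjMap.point_toSpec]
  refine eq_of_ideal φ s hx (point_comp_toSpec' _ _ _) ?_
  rw [ideal_point φ s (v ᵥ* Q) b (IsUnit.mk0 _ hb)]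
  refine (ideal_congr φ s rfl (show _ = (ProjMap.point (R := E) v c hc ≫ q φ s) ≫ (ξ a).hom.left by
    rw [Category.assoc, gl_q, Category.assoc]) _).trans ?_
  refine (ideal_aut φ s ξ hξ a _ (q_point_comp φ s _ (point_comp_toSpec' v c hc)) _).trans ?_
  rw [ideal_point φ s v c hc]
  exact rows_map_mul v Qu

include hξ in
theorem gl_aut (a : Aˣ) : gl φ s (ξ a).hom = Lin (matOf φ a) := by
  refine ext_gen (gl_toSpec φ s _) (toSpec_Lin _) ?_
  letI : Algebra E (CohB1.ProjSpace m E).functionField := (stalkCst (PicProjLib.gen m E)).toAlgebra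
  rw [fromSpecStalk_eq_point _ 0 (PicProjLib.gen_mem m E)]
  exact point_gl_aut (F := (CohB1.ProjSpace m E).functionField) φ s ξ hξ a _ 0 _

/-- An `E`-point below a point of the projective space. -/
theorem exists_point_eq (x : BrSev.Pts f E) : ∃ (v : Fin (m + 1) → E) (c : Fin (m + 1)) (hc : IsUnit (v c)),
    ProjMap.point (R := E) v c hc ≫ q φ s = x.1 := by
  haveI := isIso_Φ (lineData φ s)
  let h : Spec (CommRingCat.of E) ⟶ ℙm := pullback.lift x.1 (𝟙 _) (x.2.trans (Category.id_comp _).symm) ≫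
    inv (Φ (lineData φ s))
  have hq : h ≫ q φ s = x.1 := by
    simp only [h, q, Category.assoc, IsIso.inv_hom_id_assoc, pullback.lift_fst]
  have hh : h ≫ CohB1.ProjSpace.toSpec m E = Spec.map (CommRingCat.ofHom (algebraMap E E)) := by
    rw [← Φ_comp (lineData φ s)]
    simp only [h, Category.assoc, IsIso.inv_hom_id_assoc, pullback.lift_snd, Algebra.algebraMap_self]
    exact (Spec.map_id _).symm
  obtain ⟨c, hc⟩ := ProjMap.exists_chart E (h default)
  have hr : Set.range h ⊆ Set.range (ProjMap.chart (R := E) c) := by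
    rintro _ ⟨z, rfl⟩
    haveI : Subsingleton (Spec (CommRingCat.of E)) := inferInstanceAs (Subsingleton (PrimeSpectrum E))
    rw [Subsingleton.elim z default]
    exact hc
  obtain ⟨ψ, hψ⟩ := Spec.map_surjective (IsOpenImmersion.lift (ProjMap.chart (R := E) c) h hr)
  have hψc : Spec.map ψ ≫ ProjMap.chart c = h := by rw [hψ, IsOpenImmersion.lift_fac]
  have hψA : ProjMap.IsAlg (R := E) c ψ.hom := ProjMap.isAlg_of_toSpec c ψ.hom (by
    refine (Category.assoc _ _ _).symm.trans ?_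
    exact (congrArg (· ≫ _) hψc).trans hh)
  refine ⟨ProjMap.coords (R := E) c ψ.hom, c, by simp, ?_⟩
  rw [ProjMap.point_coords c ψ.hom hψA, ← hq, ← hψc]
  rfl

theorem theta_self (t : E ⊗[k] A) : theta φ E t = φ t := by
  show thetaHom φ E t = _
  induction t using TensorProduct.induction_on with
  | zero => simp
  | tmul e a =>
    rw [thetaHom_tmul, show e ⊗ₜ[k] a = e • ((1 : E) ⊗ₜ[k] a) by rw [TensorProduct.smul_tmul', smul_eq_mul, mul_one],
      map_smul, Algebra.algebraMap_self]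
    simp
  | add a b ha hb => rw [map_add, map_add, ha, hb]

theorem ideal_eq_theta {R : CommRingCat.{u}} [iE : Algebra E R] [ik : Algebra k R] [IsScalarTower k E R]
    (α : CommRingCat.of E ⟶ R) (hα : ∀ e, algebraMap E R e = α.hom e) (h : Spec R ⟶ X)
    (w : h ≫ f = Spec.map α ≫ Spec.map (CommRingCat.ofHom (algebraMap k E)))
    (w' : h ≫ f = Spec.map (CommRingCat.ofHom (algebraMap k R))) :
    ideal φ s α h w =
      (s.bij R ⟨h, w'⟩).1.toSubmodule.map (theta φ R).toLinearEquiv.toLinearMap := by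
  obtain rfl : ik = (α.hom.comp (algebraMap k E)).toAlgebra :=
    Algebra.algebra_ext _ _ fun r => (IsScalarTower.algebraMap_apply k E R r).trans (hα _)
  obtain rfl : iE = α.hom.toAlgebra := Algebra.algebra_ext _ _ hα
  rfl

theorem ideal_self (x : BrSev.Pts f E)
    (w : x.1 ≫ f = Spec.map (CommRingCat.ofHom (algebraMap E E)) ≫ Spec.map (CommRingCat.ofHom (algebraMap k E))) :
    ideal φ s (CommRingCat.ofHom (algebraMap E E)) x.1 w =
      (s.bij E x).1.toSubmodule.map φ.toLinearEquiv.toLinearMap := by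
  have e : (theta φ E).toLinearEquiv.toLinearMap = φ.toLinearEquiv.toLinearMap :=
    LinearMap.ext fun t => theta_self φ t
  rw [← e]
  exact ideal_eq_theta φ s (R := CommRingCat.of E) (CommRingCat.ofHom (algebraMap E E)) (fun _ => rfl) x.1 w x.2

theorem act_eq_of_rows (y : (E ⊗[k] A)ˣ) {x x' : BrSev.Pts f E} {v : Fin (m + 1) → E}
    (hx : (s.bij E x).1.toSubmodule.map φ.toLinearEquiv.toLinearMap = rows v)
    (hx' : (s.bij E x').1.toSubmodule.map φ.toLinearEquiv.toLinearMap = rows (v ᵥ* φ (y : E ⊗[k] A))) :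
    s.bij E x' = act y (s.bij E x) := by
  refine ext_set (Submodule.map_injective_of_injective φ.toLinearEquiv.injective ?_)
  rw [hx', show v ᵥ* φ (y : E ⊗[k] A) = v ᵥ* ((Units.map φ.toRingEquiv.toRingHom.toMonoidHom y :
    (Matrix (Fin (m + 1)) (Fin (m + 1)) E)ˣ) : Matrix _ _ E) from rfl, ← rows_map_mul, ← hx]
  show _ = (Submodule.map _ _).map _
  rw [← Submodule.map_comp, ← Submodule.map_comp]
  congr 1
  exact LinearMap.ext fun z => (map_mul φ z _).symm

end Groth.Agent.SBAutLib
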