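import Groth.Agent.SBAutLib.DivAlg
import Groth.Agent.CSALib.Criterion

/-!
# Large finite subgroups of the units modulo the centre in small characteristic

The construction from a purely inseparable element follows the proof of `S15173`, without
assuming roots of unity in the base field.
-/

set_option autoImplicit false
universe u

open Polynomial
open scoped Matrix

noncomputable section

namespace Groth.Agent.SBAutLib

variable {k : Type u} [Field k]

theorem exists_subgroup_split {p : ℕ} [Fact p.Prime] [CharP k p] {A : Type u} [Ring A] [Algebra k A] [Infinite k] {m : ℕ}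
    (e : A ≃ₐ[k] Matrix (Fin (m + 2)) (Fin (m + 2)) k) {Q : Type u} [Group Q] (π : Aˣ →* Q)
    (hπ : π.ker = (Units.map (algebraMap k A : k →* A)).range) (N : ℕ) :
    ∃ G : Subgroup Q, Finite G ∧ N < Nat.card G := by
  classical
  let E : Matrix (Fin (m + 2)) (Fin (m + 2)) k := Matrix.single 0 1 1
  have hE : E * E = 0 := Matrix.single_mul_single_of_ne (1 : k) _ _ _ (by simp) _
  have hmul : ∀ x y : k, (1 + x • E) * (1 + y • E) = 1 + (x + y) • E := fun x y => by
    rw [mul_add, add_mul, add_mul, one_mul, mul_one, smul_mul_smul_comm, hE, smul_zero, add_smul, one_mul]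
    abel
  let T : k → Aˣ := fun x => Units.map e.symm.toRingEquiv.toRingHom.toMonoidHom
    ⟨1 + x • E, 1 + (-x) • E, by rw [hmul, add_neg_cancel, zero_smul, add_zero],
      by rw [hmul, neg_add_cancel, zero_smul, add_zero]⟩
  have hT : ∀ x y, T (x + y) = T x * T y := fun x y => by
    rw [← map_mul]
    exact congrArg (Units.map e.symm.toRingEquiv.toRingHom.toMonoidHom) (Units.ext (hmul x y).symm)
  let F : Multiplicative k →* Q := MonoidHom.mk' (fun x => π (T x.toAdd)) fun x y => by rw [toAdd_mul, hT, map_mul]
  have hF : Function.Injective F := (injective_iff_map_eq_one F).2 fun x hx => by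
    have hx' : T x.toAdd ∈ π.ker := MonoidHom.mem_ker.2 hx
    rw [hπ] at hx'
    obtain ⟨c, hc⟩ := MonoidHom.mem_range.1 hx'
    have h1 := congrArg (fun u : Aˣ => e (u : A) 0 1) hc
    have h2 : e ((T x.toAdd : Aˣ) : A) = 1 + x.toAdd • E := e.apply_symm_apply _
    replace h1 : e (algebraMap k A (c : k)) 0 1 = e ((T x.toAdd : Aˣ) : A) 0 1 := h1
    rw [h2, e.commutes] at h1
    simp only [E, Matrix.algebraMap_matrix_apply, Matrix.add_apply, Matrix.smul_apply] at h1
    simp at h1
    exact toAdd_eq_zero.1 h1.symm
  let S : Finset k := Finset.univ.image fun i : Fin (N + 1) => Infinite.natEmbedding k i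
  let H : AddSubgroup k := AddSubgroup.closure (S : Set k)
  haveI : AddGroup.FG H := (AddGroup.fg_iff_addSubgroup_fg H).mpr ⟨S, rfl⟩
  haveI : Finite H := AddCommGroup.finite_of_fg_torsion H fun x =>
    isOfFinAddOrder_iff_nsmul_eq_zero.mpr ⟨p, (Fact.out : p.Prime).pos, Subtype.ext (by
      rw [AddSubgroupClass.coe_nsmul, nsmul_eq_mul, CharP.cast_eq_zero, zero_mul]; rfl)⟩
  haveI : Finite (AddSubgroup.toSubgroup H) := ‹Finite H›
  refine ⟨(AddSubgroup.toSubgroup H).map F, Finite.of_equiv _ (Subgroup.equivMapOfInjective _ F hF).toEquiv, ?_⟩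
  rw [← Nat.card_congr (Subgroup.equivMapOfInjective _ F hF).toEquiv]
  show N < Nat.card H
  refine Nat.lt_of_succ_le ?_
  rw [show N.succ = Nat.card (Fin (N + 1)) from (Nat.card_fin _).symm]
  refine Nat.card_le_card_of_injective (fun i => (⟨Infinite.natEmbedding k i,
    AddSubgroup.subset_closure (Finset.mem_coe.2 (Finset.mem_image_of_mem _ (Finset.mem_univ i)))⟩ : H)) ?_
  intro i j hij
  exact Fin.ext ((Infinite.natEmbedding k).injective (congrArg Subtype.val hij))

variable {A : Type u} [DivisionRing A] [Algebra k A] [FiniteDimensional k A]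

theorem exists_subgroup_of_inseparable {p : ℕ} [Fact p.Prime] [CharP k p] [Infinite k] {Q : Type u} [Group Q] (π : Aˣ →* Q)
    (hπ : π.ker = (Units.map (algebraMap k A : k →* A)).range)
    (w : A) (hw : w ^ p ∈ (algebraMap k A).range) (hwK : w ∉ (algebraMap k A).range) (N : ℕ) :
    ∃ G : Subgroup Q, Finite G ∧ N < Nat.card G := by
  classical
  have hp0 : p ≠ 0 := (Fact.out : p.Prime).ne_zero
  let L := Algebra.adjoin k ({w} : Set A)
  let W : L := ⟨w, Algebra.self_mem_adjoin_singleton k w⟩
  letI : Field L := (isField_adjoin w).toField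
  haveI : CharP L p := charP_of_injective_algebraMap (algebraMap k L).injective p
  let ι : Lˣ →* Aˣ := Units.map (L.val : L →* A)
  let f : Lˣ →* Q := π.comp ι
  have hfk : ∀ x : Lˣ, f x = 1 ↔ ∃ c : k, (x : L) = algebraMap k L c := fun x => by
    rw [← MonoidHom.mem_ker, show f.ker = π.ker.comap ι from (MonoidHom.comap_ker π ι).symm, hπ, Subgroup.mem_comap,
      MonoidHom.mem_range]
    constructor
    · rintro ⟨c, hc⟩
      exact ⟨c, Subtype.ext (congrArg Units.val hc).symm⟩
    · rintro ⟨c, hc⟩
      exact ⟨Units.mk0 c fun h0 => x.ne_zero (by rw [hc, h0, map_zero]), Units.ext (congrArg Subtype.val hc).symm⟩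
  have hne : ∀ c : k, W + algebraMap k L c ≠ 0 := fun c h => hwK ⟨-c, by
    have h' : w + algebraMap k A c = 0 := congrArg Subtype.val h
    rw [map_neg]; exact (eq_neg_of_add_eq_zero_left h').symm⟩
  let u : k → Lˣ := fun c => Units.mk0 _ (hne c)
  have hup : ∀ c, f (u c ^ p) = 1 := by
    intro c
    obtain ⟨r, hr⟩ := hw
    have hr' : W ^ p = algebraMap k L r := Subtype.ext hr.symm
    refine (hfk _).2 ⟨r + c ^ p, ?_⟩
    rw [Units.val_pow_eq_pow_val, Units.val_mk0, add_pow_char, hr', map_add, map_pow]
  have hinj : ∀ c c', f (u c) = f (u c') → c = c' := by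
    intro c c' h
    obtain ⟨r, hr⟩ := (hfk ((u c)⁻¹ * u c')).1 (by rw [map_mul, map_inv, h, inv_mul_cancel])
    have e : algebraMap k L r * (W + algebraMap k L c) = W + algebraMap k L c' := by
      rw [← hr, Units.val_mul, mul_comm, ← mul_assoc]
      show (u c : L) * _ * (u c' : L) = (u c' : L)
      rw [Units.mul_inv, one_mul]
    by_cases h1 : r = 1
    · rw [h1, map_one, one_mul] at e
      exact (algebraMap k L).injective (add_left_cancel e)
    · exfalso
      have e2 : algebraMap k L (r - 1) * W = algebraMap k L (c' - r * c) := by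
        rw [map_sub, map_sub, map_mul, map_one]; linear_combination e
      refine hwK ⟨(r - 1)⁻¹ * (c' - r * c), ?_⟩
      have e3 : algebraMap k L ((r - 1)⁻¹ * (c' - r * c)) = W := by
        rw [map_mul, ← e2, ← mul_assoc, ← map_mul, inv_mul_cancel₀ (sub_ne_zero.mpr h1), map_one, one_mul]
      exact congrArg Subtype.val e3
  let pts : Fin (N + 1) → k := fun i => Infinite.natEmbedding k i
  let q := QuotientGroup.mk' f.ker
  let M : Subgroup (Lˣ ⧸ f.ker) := Subgroup.closure (Set.range fun i => q (u (pts i)))
  haveI : Group.FG M := (Group.fg_iff_subgroup_fg M).mpr ⟨Finset.univ.image fun i => q (u (pts i)), by simp [M]⟩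
  haveI : Finite M := CommGroup.finite_of_fg_torsion M (fun z => by
    have hz : ∀ z ∈ M, z ^ p = (1 : Lˣ ⧸ f.ker) := by
      intro z hz
      induction hz using Subgroup.closure_induction with
      | mem z hz =>
        obtain ⟨i, rfl⟩ := hz
        show (q (u (pts i))) ^ p = 1
        rw [← map_pow]
        exact (QuotientGroup.eq_one_iff _).mpr (hup _)
      | one => exact one_pow p
      | mul a b _ _ ha hb => exact ((Commute.all a b).mul_pow p).trans (by rw [ha, hb]; exact one_mul (1 : Lˣ ⧸ f.ker))
      | inv a _ ha => rw [inv_pow, ha, inv_one]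
    exact isOfFinOrder_iff_pow_eq_one.mpr ⟨p, Nat.pos_of_ne_zero hp0, Subtype.ext (hz z z.2)⟩)
  let F := QuotientGroup.kerLift f
  have hF : Function.Injective F := QuotientGroup.kerLift_injective f
  refine ⟨M.map F, Finite.of_equiv _ (Subgroup.equivMapOfInjective M F hF).toEquiv, ?_⟩
  rw [← Nat.card_congr (Subgroup.equivMapOfInjective M F hF).toEquiv]
  refine Nat.lt_of_succ_le ?_
  rw [show N.succ = Nat.card (Fin (N + 1)) from (Nat.card_fin _).symm]
  refine Nat.card_le_card_of_injective (fun i => (⟨q (u (pts i)), Subgroup.subset_closure ⟨i, rfl⟩⟩ : M)) ?_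
  intro i j hij
  have := hinj _ _ (congrArg (fun z : M => F z.1) hij)
  exact Fin.ext ((Infinite.natEmbedding k).injective this)

theorem exists_noncommuting [Algebra.IsCentral k A] {a : A} (ha : a ∉ (algebraMap k A).range) :
    ∃ b : A, ¬ Commute a b := by
  by_contra! h
  have hc : a ∈ Subalgebra.center k A := Subalgebra.mem_center_iff.2 fun b => (h b).eq.symm
  exact ha (Algebra.mem_bot.1 (Algebra.IsCentral.out hc))

theorem exists_notMem_range (hA : 1 < Module.finrank k A) : ∃ a : A, a ∉ (algebraMap k A).range := by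
  by_contra! h
  have : (⊥ : Subalgebra k A) = ⊤ := eq_top_iff.2 fun a _ => Algebra.mem_bot.2 (h a)
  rw [Subalgebra.bot_eq_top_iff_finrank_eq_one] at this
  omega

/-- A quaternion division algebra in characteristic two has a noncentral element with central square. -/
theorem exists_sq_mem_range [CharP k 2] [Algebra.IsCentral k A] (hA : Module.finrank k A = 2 * 2) :
    ∃ w : A, w ∉ (algebraMap k A).range ∧ w ^ 2 ∈ (algebraMap k A).range := by
  obtain ⟨a, ha⟩ := exists_notMem_range (k := k) (A := A) (by omega)
  set P := minpoly k a with hP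
  have hi := Algebra.IsIntegral.isIntegral (R := k) a
  have hd : P.natDegree = 2 := ((Nat.prime_two.eq_one_or_self_of_dvd _ (natDegree_dvd hA a))).resolve_left fun h =>
    ha (minpoly.natDegree_eq_one_iff.1 h)
  have heq : a * a + algebraMap k A (P.coeff 1) * a + algebraMap k A (P.coeff 0) = 0 := by
    have h := minpoly.aeval k a
    rw [← hP, aeval_eq_sum_range, hd, Finset.sum_range_succ, Finset.sum_range_succ, Finset.sum_range_one] at h
    have hl : P.coeff 2 = 1 := by rw [← hd]; exact minpoly.monic hi
    rw [hl, one_smul, pow_zero, pow_one, Algebra.smul_def, Algebra.smul_def, mul_one, sq] at h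
    rw [← h]
    abel
  generalize P.coeff 1 = b at heq
  generalize P.coeff 0 = c at heq
  haveI : CharP A 2 := charP_of_injective_algebraMap (algebraMap k A).injective 2
  have hadd : ∀ x : A, x + x = 0 := CharTwo.add_self_eq_zero
  have hneg : ∀ x : A, -x = x := CharTwo.neg_eq
  have hsub : ∀ x z : A, x - z = x + z := CharTwo.sub_eq_add
  have hb : ∀ x : A, algebraMap k A b * x = x * algebraMap k A b := Algebra.commutes b
  have hc : ∀ x : A, algebraMap k A c * x = x * algebraMap k A c := Algebra.commutes c
  generalize hB : algebraMap k A b = B at heq hb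
  generalize hC : algebraMap k A c = C at heq hc
  have ha2 : a * a = B * a + C := by
    rw [← hneg (B * a + C)]
    exact eq_neg_of_add_eq_zero_left (by rw [← add_assoc]; exact heq)
  rcases eq_or_ne b 0 with rfl | hb0
  · refine ⟨a, ha, c, ?_⟩
    rw [sq, ha2, ← hB, ← hC, map_zero, zero_mul, zero_add]
  obtain ⟨z, hz⟩ := exists_noncommuting ha
  let y := a * z + z * a
  have hy : y ≠ 0 := fun h => hz (by
    show a * z = z * a
    rw [← hneg (z * a)]
    exact eq_neg_of_add_eq_zero_left h)
  have hconj : y * a = (B + a) * y := by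
    refine sub_eq_zero.1 ?_
    show (a * z + z * a) * a - (B + a) * (a * z + z * a) = 0
    rw [hsub]
    have e1 : z * a * a = z * (B * a) + z * C := by rw [mul_assoc, ha2, mul_add]
    have e2 : a * (a * z) = B * (a * z) + C * z := by rw [← mul_assoc, ha2, add_mul, mul_assoc]
    rw [add_mul, add_mul, mul_add, mul_add, e1, e2, ← mul_assoc z B a, ← hb z, ← hc z, mul_assoc B z a,
      mul_assoc a z a]
    have := hadd (a * (z * a))
    linear_combination (norm := abel) this + hadd (B * (a * z)) + hadd (B * (z * a)) + hadd (C * z)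
  have h2 : Commute (y ^ 2) a := by
    show y ^ 2 * a = a * y ^ 2
    have hyy : y * (B + a) * y = (B + (B + a)) * (y * y) := by
      rw [mul_add y B a, ← hb y, hconj, ← add_mul B (B + a) y, mul_assoc]
    rw [sq, mul_assoc, hconj, ← mul_assoc, hyy, ← add_assoc, hadd, zero_add]
  have hnc : ¬ Commute a y := by
    intro h0
    have hcm : Commute y a := h0.symm
    have h3 : B * y = 0 := by
      have h4 := hconj
      rw [hcm.eq, add_mul] at h4
      exact (add_eq_right.1 h4.symm)
    rcases mul_eq_zero.1 h3 with h5 | h5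
    · exact hb0 ((algebraMap k A).injective (by rw [hB, h5, map_zero]))
    · exact hy h5
  have hyK : y ∉ (algebraMap k A).range := by
    rintro ⟨t, ht⟩
    exact hnc (ht ▸ Algebra.commute_algebraMap_right t a)
  exact ⟨y, hyK, mem_range_of_commute_prime Nat.prime_two hA hnc h2 ((Commute.refl y).pow_left 2)⟩

end Groth.Agent.SBAutLib
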